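import Cfsg.Agent.Lib.Order175560Uniq.Order
import Cfsg.Agent.Lib.DicksonId.Small

/-!
The centraliser of an involution in a simple group of order `175560` is `2 × A₅`.
-/

set_option autoImplicit false
set_option linter.style.haveILetI false

namespace Cfsg.Agent.Lib.Order175560Uniq

universe u

variable {G : Type u} [Group G] [Finite G] [IsSimpleGroup G] (hG : Nat.card G = 175560)
include hG

theorem exists_involution : ∃ t : G, orderOf t = 2 ∧
    (∃ P : Sylow 2 G, t ∈ P ∧ ∀ x ∈ P, x * t = t * x) ∧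
    Nonempty (↥(Subgroup.centralizer ({t} : Set G)) ≃*
      Multiplicative (ZMod 2) × alternatingGroup (Fin 5)) := by
  classical
  haveI : Fact (Nat.Prime 2) := ⟨Nat.prime_two⟩
  haveI : Fact (Nat.Prime 3) := ⟨Nat.prime_three⟩
  haveI : Fact (Nat.Prime 5) := ⟨by norm_num⟩
  haveI : Fact (Nat.Prime 7) := ⟨by norm_num⟩
  haveI : Fact (Nat.Prime 11) := ⟨by norm_num⟩
  haveI : Fact (Nat.Prime 19) := ⟨by norm_num⟩
  have D := localData hG (default : Sylow 3 G) (default : Sylow 5 G) (default : Sylow 7 G)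
    (default : Sylow 11 G) (default : Sylow 19 G)
  set P3 : Sylow 3 G := default
  set P5 : Sylow 5 G := default
  obtain ⟨t, ht, hC⟩ := exists_one_twenty hG D
  have hP3 := sylow_card hG (p := 3) (by norm_num) (by norm_num) P3
  have hP5 := sylow_card hG (p := 5) (by norm_num) (by norm_num) P5
  have hk : classSize t = 1463 := by
    have h := classSize_mul t
    rw [hC, hG] at h
    omega
  -- the numbers of involutions in the two centralisers of order thirty
  have h3 : centNum (Subgroup.centralizer ((P3 : Subgroup G) : Set G)) 2 = 5 := by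
    obtain ⟨s, hs, hs1, hs2⟩ := centNum_thirty (by norm_num) P3 hP3 D.c3
    have hne := classIn_ne_zero P3 hP3 (u := t) (by rw [hC]; norm_num)
    have hm := class_mod P3 hP3 t
    rw [hk, classIn_eq_centNum P3 hP3 ht (by rw [D.c3]; norm_num) hne, hs] at hm
    have key : ∀ s ∈ Nat.divisors 30, s % 2 = 1 → s * 6 ∣ 30 → 1463 % 3 = s % 3 → s = 5 := by decide +kernel
    rw [hs]
    exact key s (Nat.mem_divisors.2 ⟨dvd_trans (dvd_mul_right _ _) hs2, by norm_num⟩) hs1 hs2 hm
  have h5ne := classIn_ne_zero P5 hP5 (u := t) (by rw [hC]; norm_num)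
  have hc5 : Nat.card (Subgroup.centralizer ((P5 : Subgroup G) : Set G)) = 30 := by
    refine D.c5.resolve_right fun h' => ?_
    obtain ⟨⟨v, hv, hvC⟩⟩ := (Nat.card_ne_zero.1 h5ne).1
    have := Subgroup.orderOf_dvd_natCard _ hvC
    rw [orderOf_conj_eq hv, ht, h'] at this
    norm_num at this
  have h5 : centNum (Subgroup.centralizer ((P5 : Subgroup G) : Set G)) 2 = 3 := by
    obtain ⟨s, hs, hs1, hs2⟩ := centNum_thirty (by norm_num) P5 hP5 hc5
    have hm := class_mod P5 hP5 t
    rw [hk, classIn_eq_centNum P5 hP5 ht (by rw [hc5]; norm_num) h5ne, hs] at hm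
    have key : ∀ s ∈ Nat.divisors 30, s % 2 = 1 → s * 10 ∣ 30 → 1463 % 5 = s % 5 → s = 3 := by decide +kernel
    rw [hs]
    exact key s (Nat.mem_divisors.2 ⟨dvd_trans (dvd_mul_right _ _) hs2, by norm_num⟩) hs1 hs2 hm
  have hcount := count_le hG D
  have hE2 := classSize_le_num ht
  rw [h3, h5] at hcount
  rw [hk] at hE2
  have h48 : num G 4 = 0 ∧ num G 8 = 0 := by omega
  -- a Sylow subgroup inside the centraliser, elementary abelian
  set Z := Subgroup.centralizer ({t} : Set G) with hZ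
  have htZ : t ∈ Z := Subgroup.mem_centralizer_singleton_iff.2 rfl
  have hzc : ∀ x : ↥Z, x * ⟨t, htZ⟩ = ⟨t, htZ⟩ * x := fun x =>
    Subtype.ext (Subgroup.mem_centralizer_singleton_iff.1 x.2)
  let T : Sylow 2 ↥Z := default
  have hT : Nat.card (T : Subgroup ↥Z) = 8 :=
    SmallGroups.Sylow.card_sylow_eq T (a := 3) (m := 15) (by rw [hC]; norm_num) (by norm_num)
  have htT : (⟨t, htZ⟩ : ↥Z) ∈ (T : Subgroup ↥Z) := by
    have hn : (⟨t, htZ⟩ : ↥Z) ∈ Subgroup.normalizer ((T : Subgroup ↥Z) : Set ↥Z) := by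
      refine Subgroup.mem_normalizer_fintype (S := ((T : Subgroup ↥Z) : Set ↥Z)) fun x hx => ?_
      rwa [← hzc x, mul_inv_cancel_right]
    exact Classif.SmallOrderTools.mem_of_smul_eq (⟨t, htZ⟩ : ↥Z) (n := 1)
      (Subtype.ext (by rw [pow_one, SubmonoidClass.coe_pow, ← ht, pow_orderOf_eq_one, Subgroup.coe_one]))
      T (Sylow.smul_eq_iff_mem_normalizer.2 hn)
  have hsq : ∀ a ∈ (T : Subgroup ↥Z), a * a = 1 := by
    intro a ha
    have hd : orderOf a ∣ 2 ^ 3 := by
      have := Subgroup.orderOf_dvd_natCard _ ha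
      rwa [hT] at this
    obtain ⟨j, hj, hj'⟩ := (Nat.dvd_prime_pow Nat.prime_two).1 hd
    rw [← pow_two, ← orderOf_dvd_iff_pow_eq_one, hj']
    interval_cases j
    · norm_num
    · norm_num
    · exfalso
      haveI : Nonempty {x : G // orderOf x = 4} := ⟨⟨a.1, by rw [Subgroup.orderOf_coe]; exact hj'⟩⟩
      exact (Nat.card_pos (α := {x : G // orderOf x = 4})).ne' h48.1
    · exfalso
      haveI : Nonempty {x : G // orderOf x = 8} := ⟨⟨a.1, by rw [Subgroup.orderOf_coe]; exact hj'⟩⟩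
      exact (Nat.card_pos (α := {x : G // orderOf x = 8})).ne' h48.2
  haveI hTc : IsMulCommutative ↥(T : Subgroup ↥Z) := ⟨⟨fun a b => by
    have hinv : ∀ c : ↥(T : Subgroup ↥Z), c⁻¹ = c := fun c =>
      inv_eq_of_mul_eq_one_right (Subtype.ext (hsq c c.2))
    calc a * b = (a * b)⁻¹ := (hinv _).symm
      _ = b * a := by rw [mul_inv_rev, hinv, hinv]⟩⟩
  have hP2 : ∃ P : Sylow 2 G, t ∈ P ∧ ∀ x ∈ P, x * t = t * x := by
    have hf : (175560 : ℕ).factorization 2 = 3 := by
      rw [show (175560 : ℕ) = 2 ^ 3 * 21945 by norm_num, Nat.factorization_mul (by norm_num) (by norm_num),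
        Finsupp.add_apply, Nat.factorization_eq_zero_of_not_dvd (show ¬ 2 ∣ 21945 by norm_num),
        Nat.Prime.factorization_pow Nat.prime_two, Finsupp.single_eq_same]
    refine ⟨Sylow.ofCard ((T : Subgroup ↥Z).map Z.subtype)
      (by rw [Subgroup.card_map_of_injective Z.subtype_injective, hT, hG, hf]; rfl), ⟨_, htT, rfl⟩, ?_⟩
    rintro _ ⟨a, -, rfl⟩
    exact Subgroup.mem_centralizer_singleton_iff.1 a.2
  refine ⟨t, ht, hP2, ?_⟩
  -- the quotient by `⟨t⟩`
  set A : Subgroup ↥Z := Subgroup.zpowers ⟨t, htZ⟩ with hA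
  haveI hAn : A.Normal := ⟨by
    rintro _ ⟨i, rfl⟩ g
    have : Commute g ((⟨t, htZ⟩ : ↥Z) ^ i) := (show Commute g ⟨t, htZ⟩ from hzc g).zpow_right i
    exact ⟨i, by rw [this.eq, mul_inv_cancel_right]⟩⟩
  have hAcard : Nat.card A = 2 := by rw [hA, Nat.card_zpowers, Subgroup.orderOf_mk, ht]
  have hQ : Nat.card (↥Z ⧸ A) = 60 := by
    have h := A.card_mul_index
    rw [hAcard, hC, Subgroup.index] at h
    omega
  have hpre : ∀ N : Subgroup (↥Z ⧸ A), Nat.card (N.comap (QuotientGroup.mk' A)) = 2 * Nat.card N := by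
    intro N
    have h1 := (N.comap (QuotientGroup.mk' A)).card_mul_index
    rw [Subgroup.index_comap_of_surjective _ (QuotientGroup.mk'_surjective A), hC] at h1
    have h2 := N.card_mul_index
    rw [hQ] at h2
    have : N.index ≠ 0 := Subgroup.index_ne_zero_of_finite
    nlinarith
  have hn2 : ∀ N : Subgroup (↥Z ⧸ A), N.Normal → Nat.card N ≠ 2 := by
    intro N hN hN2
    haveI := hN
    set M := N.comap (QuotientGroup.mk' A) with hM
    haveI : M.Normal := hN.comap _
    have hM4 : Nat.card M = 4 := by rw [hM, hpre, hN2]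
    have htM : (⟨t, htZ⟩ : ↥Z) ∈ M := by
      rw [hM, Subgroup.mem_comap, QuotientGroup.mk'_apply,
        (QuotientGroup.eq_one_iff _).2 (Subgroup.mem_zpowers _)]
      exact one_mem N
    obtain ⟨x, hx⟩ := exists_prime_orderOf_dvd_card' (G := ↥Z) 5 (by rw [hC]; norm_num)
    -- conjugation by `x` on the other elements of `M`
    let X := {m : ↥Z // m ∈ M ∧ m ≠ 1 ∧ m ≠ ⟨t, htZ⟩}
    have hX : Nat.card X = 2 := by
      have hne : (⟨t, htZ⟩ : ↥Z) ≠ 1 := fun h => by
        have h' : t = 1 := congrArg Subtype.val h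
        rw [h', orderOf_one] at ht
        norm_num at ht
      rw [Nat.card_congr (Equiv.subtypeEquivRight (fun m => show (m ∈ M ∧ m ≠ 1 ∧ m ≠ ⟨t, htZ⟩) ↔
        m ∈ ((M : Set ↥Z) \ {1, ⟨t, htZ⟩}) by simp)), Nat.card_coe_set_eq,
        Set.ncard_sdiff (by
          intro m hm
          rcases hm with rfl | rfl
          exacts [one_mem M, htM]),
        Set.ncard_pair hne.symm, ← Nat.card_coe_set_eq]
      show Nat.card M - 2 = 2
      rw [hM4]
    letI : MulAction (Subgroup.zpowers x) X :=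
      { smul := fun g m => ⟨(g : ↥Z) * m.1 * (g : ↥Z)⁻¹, Subgroup.Normal.conj_mem ‹M.Normal› _ m.2.1 _,
          fun h => m.2.2.1 (conj_eq_one_iff.1 h), fun h => m.2.2.2 (by
            have h' := congrArg (fun z => (g : ↥Z)⁻¹ * z * (g : ↥Z)) h
            rw [mul_assoc (g : ↥Z)⁻¹ ⟨t, htZ⟩, ← hzc (g : ↥Z), inv_mul_cancel_left] at h'
            simpa [mul_assoc] using h')⟩
        one_smul := fun m => Subtype.ext (by show 1 * m.1 * 1⁻¹ = m.1; group)
        mul_smul := fun g h m => Subtype.ext (by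
          show (g : ↥Z) * h * m.1 * ((g : ↥Z) * h)⁻¹ = g * (h * m.1 * (h : ↥Z)⁻¹) * (g : ↥Z)⁻¹
          group) }
    have hpx : IsPGroup 5 (Subgroup.zpowers x) :=
      IsPGroup.of_card (n := 1) (by rw [Nat.card_zpowers, hx, pow_one])
    have hmod := hpx.card_modEq_card_fixedPoints X
    rw [hX, Nat.ModEq] at hmod
    have hpos : 0 < Nat.card (MulAction.fixedPoints (Subgroup.zpowers x) X) := by
      rcases Nat.eq_zero_or_pos (Nat.card (MulAction.fixedPoints (Subgroup.zpowers x) X)) with h | h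
      · rw [h] at hmod; norm_num at hmod
      · exact h
    obtain ⟨⟨⟨m, hmM, hm1, hmt⟩, hfix⟩⟩ := (Nat.card_pos_iff.1 hpos).1
    have hmx : x * m * x⁻¹ = m := congrArg Subtype.val (hfix ⟨x, Subgroup.mem_zpowers x⟩)
    -- the four-group commutes with an element of order five
    obtain ⟨R, hR⟩ := (IsPGroup.of_card (n := 1) (by
      rw [Nat.card_zpowers, Subgroup.orderOf_coe, hx, pow_one]) :
      IsPGroup 5 (Subgroup.zpowers (x : G))).exists_le_sylow
    obtain ⟨g, hg⟩ := MulAction.exists_smul_eq G R P5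
    have hmem : g * x * g⁻¹ ∈ (P5 : Subgroup G) := by
      rw [← hg, Sylow.coe_subgroup_smul]
      exact ⟨x, hR (Subgroup.mem_zpowers _), rfl⟩
    have hne5 : g * (x : G) * g⁻¹ ≠ 1 := fun h => by
      rw [conj_eq_one_iff] at h
      have : orderOf (x : G) = 5 := by rw [Subgroup.orderOf_coe, hx]
      rw [h, orderOf_one] at this
      norm_num at this
    have hle : (M.map Z.subtype).map (MulAut.conj g).toMonoidHom ≤
        Subgroup.centralizer ((P5 : Subgroup G) : Set G) := by
      rintro _ ⟨_, ⟨a, ha, rfl⟩, rfl⟩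
      refine (mem_centralizer_prime P5 hP5 hmem hne5).2 ?_
      refine Commute.map ?_ (MulAut.conj g).toMonoidHom
      have haM : a = 1 ∨ a = ⟨t, htZ⟩ ∨ a = m ∨ a = ⟨t, htZ⟩ * m := by
        by_contra hno
        push Not at hno
        obtain ⟨n1, n2, n3, n4⟩ := hno
        have hne : (⟨t, htZ⟩ : ↥Z) * m ≠ 1 ∧ (⟨t, htZ⟩ : ↥Z) * m ≠ ⟨t, htZ⟩ := by
          refine ⟨fun h => hmt ?_, fun h => hm1 (mul_eq_left.1 h)⟩
          have h2 : (⟨t, htZ⟩ : ↥Z) * ⟨t, htZ⟩ = 1 := Subtype.ext (by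
            show t * t = 1
            rw [← pow_two, ← ht, pow_orderOf_eq_one])
          exact mul_left_cancel (h.trans h2.symm)
        have hsm : m ≠ ⟨t, htZ⟩ * m := fun h => by
          have h' : t = 1 := congrArg Subtype.val (mul_eq_right.1 h.symm)
          rw [h', orderOf_one] at ht
          norm_num at ht
        obtain ⟨y, -, hy⟩ := (Nat.card_eq_two_iff' (⟨m, hmM, hm1, hmt⟩ : X)).1 hX
        have h1 := hy ⟨a, ha, n1, n2⟩ fun h => n3 (congrArg Subtype.val h)
        have h2 := hy ⟨⟨t, htZ⟩ * m, mul_mem htM hmM, hne.1, hne.2⟩ fun h =>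
          hsm (congrArg Subtype.val h).symm
        exact n4 (congrArg Subtype.val (h1.trans h2.symm))
      have ct : Commute (⟨t, htZ⟩ : ↥Z) x := (hzc x).symm
      have cm : Commute m x := (mul_inv_eq_iff_eq_mul.1 hmx).symm
      rcases haM with rfl | rfl | rfl | rfl
      exacts [(Commute.one_left x).map Z.subtype, ct.map Z.subtype, cm.map Z.subtype,
        (ct.mul_left cm).map Z.subtype]
    have h4 := Subgroup.card_dvd_of_le hle
    rw [Subgroup.card_map_of_injective (MulAut.conj g).injective,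
      Subgroup.card_map_of_injective Z.subtype_injective, hM4, hc5] at h4
    norm_num at h4
  have hn5 : ∀ N : Subgroup (↥Z ⧸ A), N.Normal → Nat.card N ≠ 5 := by
    intro N hN hN5
    haveI := hN
    set M := N.comap (QuotientGroup.mk' A) with hM
    haveI : M.Normal := hN.comap _
    have hM10 : Nat.card M = 10 := by rw [hM, hpre, hN5]
    let R : Sylow 5 ↥M := default
    have hR : Nat.card (R : Subgroup ↥M) = 5 :=
      SmallGroups.Sylow.card_sylow_eq R (a := 1) (m := 2) (by rw [hM10]; norm_num) (by norm_num)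
    have hRidx : (R : Subgroup ↥M).index = 2 :=
      SmallGroups.Sylow.index_sylow_eq R (a := 1) (m := 2) (by rw [hM10]; norm_num) (by norm_num)
    haveI hRn : (R : Subgroup ↥M).Normal := Subgroup.normal_of_index_eq_two hRidx
    haveI : ((R : Subgroup ↥M)).Characteristic := R.characteristic_of_normal hRn
    haveI hRZ : ((R : Subgroup ↥M).map M.subtype).Normal := ConjAct.normal_of_characteristic_of_normal
    set W := ((R : Subgroup ↥M).map M.subtype).map Z.subtype with hW
    have hW5 : Nat.card W = 5 := by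
      rw [hW, Subgroup.card_map_of_injective Z.subtype_injective,
        Subgroup.card_map_of_injective M.subtype_injective, hR]
    have hle : Z ≤ Subgroup.normalizer ((W : Subgroup G) : Set G) := by
      intro g hg
      refine Subgroup.mem_normalizer_fintype (S := ((W : Subgroup G) : Set G)) ?_
      rintro _ ⟨a, ha, rfl⟩
      exact ⟨(⟨g, hg⟩ : ↥Z) * a * (⟨g, hg⟩ : ↥Z)⁻¹, hRZ.conj_mem a ha _, rfl⟩
    let R' : Sylow 5 G := Sylow.ofCard W (by
      rw [hW5, hG, show (175560 : ℕ) = 5 ^ 1 * 35112 by norm_num,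
        Nat.factorization_mul (by norm_num) (by norm_num), Finsupp.add_apply,
        Nat.factorization_eq_zero_of_not_dvd (show ¬ 5 ∣ 35112 by norm_num),
        Nat.Prime.factorization_pow (by norm_num), Finsupp.single_eq_same]
      norm_num)
    have hN60 : Nat.card (Subgroup.normalizer ((R' : Subgroup G) : Set G)) * 2926 = 175560 := by
      have h := (Subgroup.normalizer ((R' : Subgroup G) : Set G)).card_mul_index
      rwa [show (Subgroup.normalizer ((R' : Subgroup G) : Set G)).index = Nat.card (Sylow 5 G) from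
        R'.card_eq_index_normalizer.symm, D.n5, hG] at h
    have h120 : 120 ∣ Nat.card (Subgroup.normalizer ((R' : Subgroup G) : Set G)) :=
      hC ▸ Subgroup.card_dvd_of_le hle
    omega
  obtain ⟨η⟩ := DicksonId.nonempty_alt_five hQ hn5 hn2
  -- the transfer into the Sylow subgroup detects `t`
  letI : CommGroup ↥(T : Subgroup ↥Z) := { (inferInstance : Group ↥(T : Subgroup ↥Z)) with
    mul_comm := fun a b => hTc.is_comm.comm a b }
  set V : ↥Z →* ↥(T : Subgroup ↥Z) := MonoidHom.transfer (MonoidHom.id ↥(T : Subgroup ↥Z)) with hV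
  have hVt : V ⟨t, htZ⟩ ≠ 1 := by
    rw [hV, MonoidHom.transfer_eq_pow _ _ (fun k g _ => by
      have h : Commute g ((⟨t, htZ⟩ : ↥Z) ^ k) := (show Commute g ⟨t, htZ⟩ from hzc g).pow_right k
      exact h.inv_mul_cancel)]
    intro h
    have h' : (⟨t, htZ⟩ : ↥Z) ^ (T : Subgroup ↥Z).index = 1 := congrArg Subtype.val h
    have hd := orderOf_dvd_of_pow_eq_one h'
    rw [Subgroup.orderOf_mk, ht, SmallGroups.Sylow.index_sylow_eq T (a := 3) (m := 15)
      (by rw [hC]; norm_num) (by norm_num)] at hd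
    norm_num at hd
  have hVA : ∀ x, V x = 1 ∨ V x = V ⟨t, htZ⟩ := by
    let B : Subgroup ↥(T : Subgroup ↥Z) := Subgroup.zpowers (V ⟨t, htZ⟩)
    let ψ : ↥Z →* ↥(T : Subgroup ↥Z) ⧸ B := (QuotientGroup.mk' B).comp V
    have hAψ : A ≤ ψ.ker := Subgroup.zpowers_le.2 (MonoidHom.mem_ker.2
      ((QuotientGroup.eq_one_iff _).2 (Subgroup.mem_zpowers _)))
    let ψ' : alternatingGroup (Fin 5) →* ↥(T : Subgroup ↥Z) ⧸ B :=
      (QuotientGroup.lift A ψ hAψ).comp η.symm.toMonoidHom
    haveI : IsSimpleGroup (alternatingGroup (Fin 5)) := alternatingGroup.isSimpleGroup_five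
    rcases IsSimpleGroup.eq_bot_or_eq_top_of_normal ψ'.ker inferInstance with h | h
    · exfalso
      have hinj := (MonoidHom.ker_eq_bot_iff ψ').1 h
      have key : ∃ a b : alternatingGroup (Fin 5), a * b ≠ b * a := by decide +kernel
      obtain ⟨a, b, hab⟩ := key
      exact hab (hinj (by rw [map_mul, map_mul, mul_comm]))
    · intro x
      have hx : ψ x = 1 := by
        have h' : ψ' (η x) = 1 := MonoidHom.mem_ker.1 (h ▸ Subgroup.mem_top _)
        simpa [ψ'] using h'
      obtain ⟨i, hi⟩ := (QuotientGroup.eq_one_iff _).1 hx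
      have h2 : V ⟨t, htZ⟩ ^ 2 = 1 := by
        rw [← map_pow, show (⟨t, htZ⟩ : ↥Z) ^ 2 = 1 from Subtype.ext (by
          rw [SubmonoidClass.coe_pow, ← ht, pow_orderOf_eq_one, Subgroup.coe_one]), map_one]
      rcases Int.even_or_odd' i with ⟨j, rfl | rfl⟩
      · left
        rw [← hi]
        show V ⟨t, htZ⟩ ^ (2 * j) = 1
        rw [zpow_mul]
        norm_cast
        rw [h2, one_zpow]
      · right
        rw [← hi]
        show V ⟨t, htZ⟩ ^ (2 * j + 1) = V ⟨t, htZ⟩
        rw [zpow_add, zpow_mul, zpow_one]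
        norm_cast
        rw [h2, one_zpow, one_mul]
  have hrange : Nat.card V.range = 2 := by
    have : (V.range : Set ↥(T : Subgroup ↥Z)) = {1, V ⟨t, htZ⟩} := by
      ext y
      simp only [SetLike.mem_coe, MonoidHom.mem_range, Set.mem_insert_iff, Set.mem_singleton_iff]
      constructor
      · rintro ⟨x, rfl⟩
        exact hVA x
      · rintro (rfl | rfl)
        exacts [⟨1, map_one _⟩, ⟨_, rfl⟩]
    show Nat.card (V.range : Set ↥(T : Subgroup ↥Z)) = 2
    rw [this, Nat.card_coe_set_eq, Set.ncard_pair hVt.symm]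
  let ι : V.range ≃* Multiplicative (ZMod 2) :=
    mulEquivOfPrimeCardEq hrange (by rw [Nat.card_eq_fintype_card]; rfl)
  let F : ↥Z →* Multiplicative (ZMod 2) × alternatingGroup (Fin 5) :=
    (ι.toMonoidHom.comp V.rangeRestrict).prod (η.toMonoidHom.comp (QuotientGroup.mk' A))
  have hinj : Function.Injective F := by
    rw [← MonoidHom.ker_eq_bot_iff, eq_bot_iff]
    intro x hx
    obtain ⟨h1, h2⟩ := Prod.mk_eq_one.1 (MonoidHom.mem_ker.1 hx)
    simp only [MonoidHom.coe_comp, Function.comp_apply, MulEquiv.coe_toMonoidHom,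
      MulEquiv.map_eq_one_iff, QuotientGroup.mk'_apply, QuotientGroup.eq_one_iff] at h1 h2
    have hVx : V x = 1 := congrArg Subtype.val h1
    obtain ⟨i, rfl⟩ := h2
    rw [Subgroup.mem_bot]
    have hi : orderOf (V ⟨t, htZ⟩) = 2 := orderOf_eq_prime (by
      rw [← map_pow, show (⟨t, htZ⟩ : ↥Z) ^ 2 = 1 from Subtype.ext (by
        rw [SubmonoidClass.coe_pow, ← ht, pow_orderOf_eq_one, Subgroup.coe_one]), map_one]) hVt
    rw [map_zpow, ← orderOf_dvd_iff_zpow_eq_one, hi] at hVx
    show (⟨t, htZ⟩ : ↥Z) ^ i = 1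
    rw [← orderOf_dvd_iff_zpow_eq_one, Subgroup.orderOf_mk, ht]
    exact hVx
  exact ⟨MulEquiv.ofBijective F ((Nat.bijective_iff_injective_and_card F).2 ⟨hinj, by
    rw [hC, Nat.card_prod, ← Nat.card_congr η.toEquiv, hQ, Nat.card_eq_fintype_card]
    rfl⟩)⟩

end Cfsg.Agent.Lib.Order175560Uniq
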