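import Cfsg.Agent.Lib.Order175560Uniq.Final
import Cfsg.Agent.Lib.J1Uniq.Final
import Cfsg.Agent.Lib.SporMatrix.J1

/-!
A simple group of order `175560` is isomorphic to `J₁`.
-/

set_option autoImplicit false
set_option linter.style.haveILetI false

namespace Cfsg.Agent.Lib.Order175560Uniq

universe u

theorem isoJ1_of_card {G : Type u} [Group G] [Finite G] [IsSimpleGroup G] (hG : Nat.card G = 175560) :
    Cfsg.Spor.IsoJ1 G := by
  haveI : IsSimpleGroup ↥Cfsg.Spor.J1 := Cfsg.Agent.Lib.SporMatrix.J1.isSimpleGroup_J1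
  have hJ : Nat.card ↥Cfsg.Spor.J1 = 175560 := Cfsg.Agent.Lib.SporMatrix.J1.card_J1
  haveI : Finite ↥Cfsg.Spor.J1 := Nat.finite_of_card_ne_zero (by omega)
  obtain ⟨t, ht, htP, ⟨e⟩⟩ := exists_involution hG
  obtain ⟨u, hu, huP, ⟨f⟩⟩ := exists_involution hJ
  exact J1Uniq.nonempty_mulEquiv e ht htP f hu huP

end Cfsg.Agent.Lib.Order175560Uniq
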