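import Cfsg.Agent.Lib.SmallGroups.Counting

/-!
Counting elements of order `p * m` through the centraliser of a Sylow subgroup of prime order.
-/

set_option autoImplicit false

namespace Cfsg.Agent.Lib.Order175560Uniq

universe u

variable {G : Type u} [Group G] [Finite G]

/-- The number of elements of a given order. -/
noncomputable def num (G : Type u) [Group G] (d : ℕ) : ℕ := Nat.card {x : G // orderOf x = d}

/-- The number of elements of a given order in a subgroup. -/
noncomputable def centNum (H : Subgroup G) (m : ℕ) : ℕ := Nat.card {y : G // y ∈ H ∧ orderOf y = m}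

theorem num_one : 1 ≤ num G 1 := by
  haveI : Nonempty {x : G // orderOf x = 1} := ⟨⟨1, orderOf_one⟩⟩
  exact Nat.card_pos

theorem sum_num_le (L : List ℕ) (hL : L.Nodup) : (L.map (num G)).sum ≤ Nat.card G := by
  classical
  haveI := Fintype.ofFinite G
  rw [← List.sum_toFinset _ hL]
  rw [Finset.sum_congr rfl fun d _ =>
      show num G d = (Finset.univ.filter fun x : G => orderOf x = d).card by
        rw [num, Nat.card_eq_fintype_card, Fintype.card_subtype],
    ← Finset.card_biUnion, Nat.card_eq_fintype_card, ← Finset.card_univ]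
  · exact Finset.card_le_card (Finset.subset_univ _)
  · intro a _ b _ hab
    simp only [Function.onFun, Finset.disjoint_left, Finset.mem_filter, Finset.mem_univ, true_and]
    exact fun x ha hb => hab (ha ▸ hb)

theorem centNum_le_card (H : Subgroup G) (m : ℕ) : centNum H m ≤ Nat.card H :=
  Nat.card_le_card_of_injective (fun y => (⟨y.1, y.2.1⟩ : H))
    fun a b h => Subtype.ext (Subtype.ext_iff.1 h :)

variable {p : ℕ} [hp : Fact p.Prime]

theorem mem_centralizer_prime (P : Sylow p G) (hP : Nat.card (P : Subgroup G) = p) {x : G}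
    (hx : x ∈ (P : Subgroup G)) (hx1 : x ≠ 1) {y : G} :
    y ∈ Subgroup.centralizer ((P : Subgroup G) : Set G) ↔ Commute y x := by
  constructor
  · exact fun h => (Subgroup.mem_centralizer_iff.1 h x hx).symm
  · intro h
    rw [Subgroup.mem_centralizer_iff]
    intro z hz
    obtain ⟨k, hk⟩ := (mem_zpowers_of_prime_card hP (g := (⟨x, hx⟩ : (P : Subgroup G)))
      (fun h => hx1 (congrArg Subtype.val h)) : (⟨z, hz⟩ : (P : Subgroup G)) ∈ _)
    have hk' : x ^ k = z := congrArg Subtype.val hk
    rw [← hk']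
    exact ((h.zpow_right k).symm).eq

theorem num_mul (P : Sylow p G) (hP : Nat.card (P : Subgroup G) = p) {m : ℕ} (hm : p.Coprime m)
    (hm0 : 0 < m) :
    num G (p * m) = num G p * centNum (Subgroup.centralizer ((P : Subgroup G) : Set G)) m := by
  classical
  haveI := Fintype.ofFinite G
  have hconst : ∀ x : G, orderOf x = p → Nat.card {y : G // Commute y x ∧ orderOf y = m} =
      centNum (Subgroup.centralizer ((P : Subgroup G) : Set G)) m := by
    intro x hx
    obtain ⟨Q, hQ⟩ := (IsPGroup.of_card (n := 1) (by rw [Nat.card_zpowers, hx, pow_one]) :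
      IsPGroup p (Subgroup.zpowers x)).exists_le_sylow
    obtain ⟨g, hg⟩ := MulAction.exists_smul_eq G Q P
    have hmem : g * x * g⁻¹ ∈ (P : Subgroup G) := by
      rw [← hg, Sylow.coe_subgroup_smul]
      exact ⟨x, hQ (Subgroup.mem_zpowers x), rfl⟩
    have hne : g * x * g⁻¹ ≠ 1 := fun h => by
      rw [conj_eq_one_iff] at h
      rw [h, orderOf_one] at hx
      exact hp.out.ne_one hx.symm
    refine Nat.card_congr
      ((MulAut.conj g).toEquiv.subtypeEquiv fun y => ?_)
    rw [MulEquiv.toEquiv_eq_coe, EquivLike.coe_coe, MulAut.conj_apply,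
      mem_centralizer_prime P hP hmem hne, ← MulAut.conj_apply, ← MulAut.conj_apply,
      MulEquiv.orderOf_eq]
    exact and_congr_left fun _ => ⟨fun h => h.map (MulAut.conj g).toMonoidHom,
      fun h => (MulAut.conj g).injective (by rw [map_mul, map_mul]; exact h.eq)⟩
  obtain ⟨a, ha1, ha2⟩ := Nat.chineseRemainder hm 1 0
  obtain ⟨b, hb1, hb2⟩ := Nat.chineseRemainder hm 0 1
  let f : (Σ x : {x : G // orderOf x = p}, {y : G // Commute y x.1 ∧ orderOf y = m}) →
      {z : G // orderOf z = p * m} := fun s => ⟨s.1.1 * s.2.1, by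
    rw [Commute.orderOf_mul_eq_mul_orderOf_of_coprime s.2.2.1.symm (by rw [s.1.2, s.2.2.2]; exact hm),
      s.1.2, s.2.2.2]⟩
  have hpow : ∀ {x : G} {d k r : ℕ}, orderOf x = d → k ≡ r [MOD d] → x ^ k = x ^ r := by
    intro x d k r hd h
    exact pow_eq_pow_iff_modEq.2 (hd ▸ h)
  have hf : Function.Bijective f := by
    constructor
    · rintro ⟨⟨x, hx⟩, ⟨y, hy, hy'⟩⟩ ⟨⟨x', hx'⟩, ⟨y', hy1, hy1'⟩⟩ h
      have h0 : x * y = x' * y' := congrArg Subtype.val h
      have hxx : x = x' := by
        have h1 := congrArg (fun z => z ^ a) h0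
        simp only [hy.symm.mul_pow, hy1.symm.mul_pow, hpow hx ha1, hpow hx' ha1, hpow hy' ha2,
          hpow hy1' ha2, pow_one, pow_zero, mul_one] at h1
        exact h1
      subst hxx
      have hyy : y = y' := mul_left_cancel h0
      subst hyy
      rfl
    · rintro ⟨z, hz⟩
      have hab : z ^ a * z ^ b = z := by
        rw [← pow_add]
        conv_rhs => rw [← pow_one z]
        refine hpow hz ((Nat.modEq_and_modEq_iff_modEq_mul hm).1 ⟨?_, ?_⟩)
        · simpa using ha1.add hb1
        · simpa using ha2.add hb2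
      have h1 : orderOf (z ^ a) ∣ p := orderOf_dvd_of_pow_eq_one (by
        rw [← pow_mul, ← orderOf_dvd_iff_pow_eq_one, hz, mul_comm a]
        exact Nat.mul_dvd_mul_left p (Nat.modEq_zero_iff_dvd.1 ha2))
      have h2 : orderOf (z ^ b) ∣ m := orderOf_dvd_of_pow_eq_one (by
        rw [← pow_mul, ← orderOf_dvd_iff_pow_eq_one, hz, mul_comm p]
        rw [mul_comm b]
        exact Nat.mul_dvd_mul_left m (Nat.modEq_zero_iff_dvd.1 hb1))
      have h3 : p * m ∣ orderOf (z ^ a) * orderOf (z ^ b) := by
        have := ((Commute.refl z).pow_pow a b).orderOf_mul_dvd_mul_orderOf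
        rwa [hab, hz] at this
      have h4 := Nat.mul_dvd_mul h1 h2
      have h5 := Nat.dvd_antisymm h4 h3
      have e1 : orderOf (z ^ a) = p := by
        rcases h1 with ⟨u, hu⟩
        rcases h2 with ⟨v, hv⟩
        have h6 : orderOf (z ^ a) * orderOf (z ^ b) * (u * v) = orderOf (z ^ a) * orderOf (z ^ b) * 1 := by
          rw [mul_one]
          conv_rhs => rw [h5, hu, hv]
          ring
        have h7 : u * v = 1 := Nat.eq_of_mul_eq_mul_left
          (Nat.mul_pos (orderOf_pos _) (orderOf_pos _)) h6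
        rw [hu, Nat.eq_one_of_mul_eq_one_right h7, mul_one]
      have e2 : orderOf (z ^ b) = m := by
        rw [e1] at h5
        exact Nat.eq_of_mul_eq_mul_left hp.out.pos h5
      exact ⟨⟨⟨z ^ a, e1⟩, ⟨z ^ b, (Commute.refl z).pow_pow b a, e2⟩⟩, Subtype.ext hab⟩
  rw [num, ← Nat.card_eq_of_bijective f hf, Nat.card_sigma,
    Finset.sum_congr rfl fun x _ => hconst x.1 x.2, Finset.sum_const, Finset.card_univ, smul_eq_mul,
    ← Nat.card_eq_fintype_card, num]

theorem num_prime (hP : ∀ P : Sylow p G, Nat.card (P : Subgroup G) = p) :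
    num G p = Nat.card (Sylow p G) * (p - 1) :=
  SmallGroups.Counting.card_orderOf_eq_prime hP

omit hp in
theorem centNum_prime {q : ℕ} [Fact q.Prime] (H : Subgroup G) (hq : ¬ q ^ 2 ∣ Nat.card H)
    (hqH : q ∣ Nat.card H) :
    ∃ s, centNum H q = s * (q - 1) ∧ s % q = 1 ∧ s ∣ Nat.card H / q := by
  have hS : ∀ Q : Sylow q H, Nat.card (Q : Subgroup H) = q := by
    intro Q
    obtain ⟨k, hk⟩ := Q.2.exists_card_eq
    rcases k with _ | _ | k
    · exfalso
      refine Q.not_dvd_index ?_
      have h := (Q : Subgroup H).card_mul_index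
      rw [hk, pow_zero, one_mul] at h
      rwa [h]
    · rw [hk, pow_one]
    · exact absurd ((pow_dvd_pow q (show 2 ≤ k + 1 + 1 by omega)).trans
        (hk ▸ Subgroup.card_subgroup_dvd_card _)) hq
  refine ⟨Nat.card (Sylow q H), ?_, Eq.trans (card_sylow_modEq_one q H)
    (Nat.one_mod_eq_one.2 (Fact.out : q.Prime).ne_one), ?_⟩
  · rw [centNum, ← SmallGroups.Counting.card_orderOf_eq_prime hS]
    exact Nat.card_congr
      { toFun := fun y => ⟨⟨y.1, y.2.1⟩, by rw [← Subgroup.orderOf_coe]; exact y.2.2⟩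
        invFun := fun y => ⟨y.1.1, y.1.2, by rw [Subgroup.orderOf_coe]; exact y.2⟩
        left_inv := fun _ => rfl
        right_inv := fun _ => rfl }
  · obtain ⟨Q⟩ := (inferInstance : Nonempty (Sylow q H))
    have h := (Q : Subgroup H).card_mul_index
    rw [hS Q] at h
    rw [← h, Nat.mul_div_cancel_left _ (Fact.out : q.Prime).pos]
    exact Q.card_dvd_index

omit hp in
/-- With a central element of order `r` prime to `q` there are fewer Sylow `q`-subgroups. -/
theorem centNum_central {q r : ℕ} [Fact q.Prime] (H : Subgroup G) (hq : ¬ q ^ 2 ∣ Nat.card H)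
    (hqH : q ∣ Nat.card H) {y : G} (hy : y ∈ H) (hyr : orderOf y = r) (hqr : q.Coprime r)
    (hyc : ∀ x ∈ H, x * y = y * x) :
    ∃ s, centNum H q = s * (q - 1) ∧ s % q = 1 ∧ s * (q * r) ∣ Nat.card H := by
  have hS : ∀ Q : Sylow q H, Nat.card (Q : Subgroup H) = q := by
    intro Q
    obtain ⟨k, hk⟩ := Q.2.exists_card_eq
    rcases k with _ | _ | k
    · exfalso
      refine Q.not_dvd_index ?_
      have h := (Q : Subgroup H).card_mul_index
      rw [hk, pow_zero, one_mul] at h
      rwa [h]
    · rw [hk, pow_one]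
    · exact absurd ((pow_dvd_pow q (show 2 ≤ k + 1 + 1 by omega)).trans
        (hk ▸ Subgroup.card_subgroup_dvd_card _)) hq
  refine ⟨Nat.card (Sylow q H), ?_, Eq.trans (card_sylow_modEq_one q H)
    (Nat.one_mod_eq_one.2 (Fact.out : q.Prime).ne_one), ?_⟩
  · rw [centNum, ← SmallGroups.Counting.card_orderOf_eq_prime hS]
    exact Nat.card_congr
      { toFun := fun y => ⟨⟨y.1, y.2.1⟩, by rw [← Subgroup.orderOf_coe]; exact y.2.2⟩
        invFun := fun y => ⟨y.1.1, y.1.2, by rw [Subgroup.orderOf_coe]; exact y.2⟩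
        left_inv := fun _ => rfl
        right_inv := fun _ => rfl }
  · obtain ⟨Q⟩ := (inferInstance : Nonempty (Sylow q H))
    set N := Subgroup.normalizer ((Q : Subgroup H) : Set H) with hN
    have h := N.index_mul_card
    rw [show N.index = Nat.card (Sylow q H) from Q.card_eq_index_normalizer.symm] at h
    rw [← h]
    refine Nat.mul_dvd_mul_left _ ((Nat.Coprime.mul_dvd_of_dvd_of_dvd hqr) ?_ ?_)
    · exact (hS Q) ▸ Subgroup.card_dvd_of_le Subgroup.le_normalizer
    · have hy' : (⟨y, hy⟩ : H) ∈ N := by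
        refine Subgroup.mem_normalizer_fintype (S := ((Q : Subgroup H) : Set H)) fun x hx => ?_
        have hxy : (⟨y, hy⟩ : H) * x = x * ⟨y, hy⟩ := Subtype.ext (hyc x x.2).symm
        rwa [hxy, mul_inv_cancel_right]
      have := Subgroup.orderOf_dvd_natCard _ hy'
      rwa [← Subgroup.orderOf_coe, hyr] at this

omit hp in
theorem centNum_eq_zero {q : ℕ} (H : Subgroup G) (hqH : ¬ q ∣ Nat.card H) : centNum H q = 0 := by
  haveI : IsEmpty {y : G // y ∈ H ∧ orderOf y = q} :=
    ⟨fun y => hqH (y.2.2 ▸ Subgroup.orderOf_dvd_natCard _ y.2.1)⟩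
  exact Nat.card_of_isEmpty

omit hp in
/-- A subgroup of order divisible by `2 ^ k`, `k ≤ 3`, has `2 ^ k - 1` non-trivial 2-elements. -/
theorem centNum_two (h16 : ¬ 16 ∣ Nat.card G) (H : Subgroup G) {k : ℕ} (hk : 2 ^ k ∣ Nat.card H) :
    2 ^ k - 1 ≤ centNum H 2 + centNum H 4 + centNum H 8 := by
  classical
  haveI : Fact (Nat.Prime 2) := ⟨Nat.prime_two⟩
  haveI := Fintype.ofFinite G
  obtain ⟨K, hK⟩ := Sylow.exists_subgroup_card_pow_prime 2 hk
  have hsub : (Finset.univ.filter fun y : G => y ∈ K.map H.subtype).erase 1 ⊆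
      (Finset.univ.filter fun y : G => y ∈ H ∧ orderOf y = 2) ∪
        (Finset.univ.filter fun y : G => y ∈ H ∧ orderOf y = 4) ∪
          (Finset.univ.filter fun y : G => y ∈ H ∧ orderOf y = 8) := by
    intro y hy
    simp only [Finset.mem_erase, Finset.mem_filter, Finset.mem_univ, true_and] at hy
    obtain ⟨hy1, hyK⟩ := hy
    have hyH : y ∈ H := Subgroup.map_subtype_le K hyK
    have hd : orderOf y ∣ 2 ^ k := by
      have := Subgroup.orderOf_dvd_natCard _ hyK
      rwa [Subgroup.card_map_of_injective H.subtype_injective, hK] at this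
    obtain ⟨j, -, hj⟩ := (Nat.dvd_prime_pow Nat.prime_two).1 hd
    simp only [Finset.mem_union, Finset.mem_filter, Finset.mem_univ, true_and, hyH, hj]
    rcases j with _ | _ | _ | _ | j
    · rw [pow_zero, orderOf_eq_one_iff] at hj; exact absurd hj hy1
    · simp
    · simp
    · simp
    · exfalso
      refine h16 (dvd_trans ?_ (hj ▸ orderOf_dvd_natCard y))
      exact pow_dvd_pow 2 (show 4 ≤ j + 1 + 1 + 1 + 1 by omega)
  have h1 := Finset.card_le_card hsub
  rw [Finset.card_erase_of_mem (Finset.mem_filter.2 ⟨Finset.mem_univ _, one_mem (K.map H.subtype)⟩), ← Fintype.card_subtype, ← Nat.card_eq_fintype_card] at h1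
  have h2 : Nat.card {y : G // y ∈ K.map H.subtype} = 2 ^ k := by
    rw [← hK]; exact Subgroup.card_map_of_injective H.subtype_injective
  rw [h2] at h1
  refine h1.trans ((Finset.card_union_le _ _).trans ((Nat.add_le_add_right (Finset.card_union_le _ _) _).trans ?_))
  simp only [centNum, Nat.card_eq_fintype_card, Fintype.card_subtype, le_refl]

end Cfsg.Agent.Lib.Order175560Uniq
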