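import Cfsg.Agent.Lib.Order175560Uniq.Sieve

/-!
Classes of involutions against centralisers of elements of prime order, in order `175560`.
-/

set_option autoImplicit false
set_option linter.style.haveILetI false

namespace Cfsg.Agent.Lib.Order175560Uniq

open Cfsg.Agent.Lib.SmallGroups

universe u

variable {G : Type u} [Group G] [Finite G]

/-- The size of a class. -/
noncomputable def classSize (u : G) : ℕ := Nat.card {v : G // IsConj u v}

/-- The size of the intersection of a class with a subgroup. -/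
noncomputable def classIn (H : Subgroup G) (u : G) : ℕ := Nat.card {v : G // IsConj u v ∧ v ∈ H}

theorem classSize_mul (u : G) :
    classSize u * Nat.card (Subgroup.centralizer ({u} : Set G)) = Nat.card G :=
  Counting.card_isConj_mul u

theorem orderOf_conj_eq {u v : G} (h : IsConj u v) : orderOf v = orderOf u := by
  obtain ⟨g, rfl⟩ := isConj_iff.1 h
  rw [← MulAut.conj_apply, MulEquiv.orderOf_eq]

variable {p : ℕ} [hp : Fact p.Prime] (P : Sylow p G) (hP : Nat.card (P : Subgroup G) = p)
include hP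

theorem class_mod (u : G) :
    classSize u % p = classIn (Subgroup.centralizer ((P : Subgroup G) : Set G)) u % p := by
  classical
  obtain ⟨⟨x, hx⟩, hx'⟩ := exists_prime_orderOf_dvd_card' (G := (P : Subgroup G)) p (by rw [hP])
  rw [Subgroup.orderOf_mk] at hx'
  have hx1 : x ≠ 1 := fun h => by rw [h, orderOf_one] at hx'; exact hp.out.ne_one hx'.symm
  let X := {v : G // IsConj u v}
  letI : MulAction G X :=
    { smul := fun g v => ⟨g * v.1 * g⁻¹, v.2.trans (isConj_iff.2 ⟨g, rfl⟩)⟩
      one_smul := fun v => Subtype.ext (by show 1 * v.1 * 1⁻¹ = v.1; group)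
      mul_smul := fun g h v => Subtype.ext (by
        show g * h * v.1 * (g * h)⁻¹ = g * (h * v.1 * h⁻¹) * g⁻¹; group) }
  have hp' : IsPGroup p ↥(P : Subgroup G) := P.2
  have h := hp'.card_modEq_card_fixedPoints X
  refine Eq.trans h (congrArg (· % p) (Nat.card_congr ?_))
  refine (Equiv.subtypeEquivRight fun v : X => ?_).trans (Equiv.subtypeSubtypeEquivSubtypeInter _ _)
  constructor
  · intro hv
    refine (mem_centralizer_prime P hP hx hx1).2 ?_
    have h1 : x * v.1 * x⁻¹ = v.1 := congrArg Subtype.val (hv ⟨x, hx⟩)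
    exact (mul_inv_eq_iff_eq_mul.1 h1).symm
  · intro hv k
    refine Subtype.ext ?_
    show (k : G) * v.1 * (k : G)⁻¹ = v.1
    rw [Subgroup.mem_centralizer_iff.1 hv k k.2, mul_inv_cancel_right]

theorem dvd_of_classIn {u : G}
    (h : classIn (Subgroup.centralizer ((P : Subgroup G) : Set G)) u ≠ 0) :
    p ∣ Nat.card (Subgroup.centralizer ({u} : Set G)) := by
  obtain ⟨⟨v, hv, hvC⟩⟩ := (Nat.card_ne_zero.1 h).1
  have hle : (P : Subgroup G) ≤ Subgroup.centralizer ({v} : Set G) := fun x hx =>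
    Subgroup.mem_centralizer_singleton_iff.2 (Subgroup.mem_centralizer_iff.1 hvC x hx)
  have h1 := Subgroup.card_dvd_of_le hle
  have h2 := classSize_mul u
  have h3 := classSize_mul v
  have h4 : classSize v = classSize u :=
    Nat.card_congr (Equiv.subtypeEquivRight fun y => ⟨fun hy => hv.trans hy, fun hy => hv.symm.trans hy⟩)
  have hpos : 0 < classSize u := by
    haveI : Nonempty {y : G // IsConj u y} := ⟨⟨u, IsConj.refl u⟩⟩
    exact Nat.card_pos
  rw [h4] at h3
  rw [hP, Nat.eq_of_mul_eq_mul_left hpos (h3.trans h2.symm)] at h1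
  exact h1

theorem classIn_ne_zero {u : G} (h : p ∣ Nat.card (Subgroup.centralizer ({u} : Set G))) :
    classIn (Subgroup.centralizer ((P : Subgroup G) : Set G)) u ≠ 0 := by
  obtain ⟨⟨x, hxC⟩, hx⟩ := exists_prime_orderOf_dvd_card' (G := Subgroup.centralizer ({u} : Set G)) p h
  rw [Subgroup.orderOf_mk] at hx
  obtain ⟨Q, hQ⟩ := (IsPGroup.of_card (n := 1) (by rw [Nat.card_zpowers, hx, pow_one]) :
    IsPGroup p (Subgroup.zpowers x)).exists_le_sylow
  obtain ⟨g, hg⟩ := MulAction.exists_smul_eq G Q P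
  have hmem : g * x * g⁻¹ ∈ (P : Subgroup G) := by
    rw [← hg, Sylow.coe_subgroup_smul]
    exact ⟨x, hQ (Subgroup.mem_zpowers x), rfl⟩
  have hne : g * x * g⁻¹ ≠ 1 := fun h => by
    rw [conj_eq_one_iff] at h
    rw [h, orderOf_one] at hx
    exact hp.out.ne_one hx.symm
  haveI : Nonempty {v : G // IsConj u v ∧ v ∈ Subgroup.centralizer ((P : Subgroup G) : Set G)} := by
    refine ⟨⟨g * u * g⁻¹, isConj_iff.2 ⟨g, rfl⟩, (mem_centralizer_prime P hP hmem hne).2 ?_⟩⟩
    have hc : x * u = u * x := Subgroup.mem_centralizer_singleton_iff.1 hxC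
    exact (show Commute u x from hc.symm).map (MulAut.conj g).toMonoidHom
  exact Nat.card_pos.ne'

/-- A subgroup with Sylow 2-subgroups of order two has one class of involutions. -/
theorem classIn_eq_centNum {u : G} (hu : orderOf u = 2)
    (h4 : ¬ 4 ∣ Nat.card (Subgroup.centralizer ((P : Subgroup G) : Set G)))
    (h : classIn (Subgroup.centralizer ((P : Subgroup G) : Set G)) u ≠ 0) :
    classIn (Subgroup.centralizer ((P : Subgroup G) : Set G)) u =
      centNum (Subgroup.centralizer ((P : Subgroup G) : Set G)) 2 := by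
  classical
  haveI : Fact (Nat.Prime 2) := ⟨Nat.prime_two⟩
  set H := Subgroup.centralizer ((P : Subgroup G) : Set G) with hH
  obtain ⟨⟨v, hv, hvC⟩⟩ := (Nat.card_ne_zero.1 h).1
  have hov : orderOf v = 2 := (orderOf_conj_eq hv).trans hu
  have hsyl : ∀ w : H, orderOf w = 2 → ∃ S : Sylow 2 H, (S : Subgroup H) = Subgroup.zpowers w := by
    intro w hw
    obtain ⟨S, hS⟩ := (IsPGroup.of_card (n := 1) (by rw [Nat.card_zpowers, hw, pow_one]) :
      IsPGroup 2 (Subgroup.zpowers w)).exists_le_sylow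
    refine ⟨S, (Subgroup.eq_of_le_of_card_ge hS ?_).symm⟩
    rw [Nat.card_zpowers, hw]
    obtain ⟨k, hk⟩ := S.2.exists_card_eq
    rcases k with _ | _ | k
    · rw [hk]; norm_num
    · rw [hk]; norm_num
    · exfalso
      refine h4 (dvd_trans ?_ (Subgroup.card_subgroup_dvd_card (S : Subgroup H)))
      rw [hk]
      exact pow_dvd_pow 2 (show 2 ≤ k + 1 + 1 by omega)
  refine Nat.card_congr (Equiv.subtypeEquivRight fun w => ?_)
  constructor
  · exact fun hw => ⟨hw.2, (orderOf_conj_eq hw.1).trans hu⟩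
  · rintro ⟨hwH, hw⟩
    refine ⟨hv.trans (isConj_iff.2 ?_), hwH⟩
    obtain ⟨S, hS⟩ := hsyl ⟨v, hvC⟩ (by rw [Subgroup.orderOf_mk, hov])
    obtain ⟨T, hT⟩ := hsyl ⟨w, hwH⟩ (by rw [Subgroup.orderOf_mk, hw])
    obtain ⟨g, hg⟩ := MulAction.exists_smul_eq H S T
    have hmem : g * ⟨v, hvC⟩ * g⁻¹ ∈ Subgroup.zpowers (⟨w, hwH⟩ : H) := by
      rw [← hT, ← hg, Sylow.coe_subgroup_smul]
      exact ⟨_, hS.symm ▸ Subgroup.mem_zpowers _, rfl⟩
    obtain ⟨i, hi, he⟩ := Finset.mem_image.1
      (mem_zpowers_iff_mem_range_orderOf.1 hmem)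
    rw [Subgroup.orderOf_mk, hw, Finset.mem_range] at hi
    refine ⟨g, ?_⟩
    have he' := congrArg Subtype.val he
    simp only [SubmonoidClass.coe_pow, Subgroup.coe_mul, InvMemClass.coe_inv] at he'
    interval_cases i
    · rw [pow_zero] at he'
      rw [conj_eq_one_iff.1 he'.symm, orderOf_one] at hov
      norm_num at hov
    · rw [pow_one] at he'
      exact he'.symm

/-- A centraliser of twice a prime order, with odd index in the normaliser. -/
theorem exists_double [IsSimpleGroup G] (hnc : ¬ IsMulCommutative G) (hp2 : p ≠ 2)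
    (hn : Nat.card (Sylow p G) ≠ 1)
    (hC : Nat.card (Subgroup.centralizer ((P : Subgroup G) : Set G)) = 2 * p)
    (hodd : Odd (Nat.card (Subgroup.normalizer ((P : Subgroup G) : Set G)) / (2 * p))) :
    ∃ t : G, orderOf t = 2 ∧ ∃ f : ℕ, Nat.card (Subgroup.centralizer ({t} : Set G)) =
      f * Nat.card (Subgroup.normalizer ((P : Subgroup G) : Set G)) ∧ f % p = 1 ∧
      f < Nat.card (Sylow p G) ∧ 4 ∣ Nat.card (Sylow p G) - f := by
  classical
  haveI : Fact (Nat.Prime 2) := ⟨Nat.prime_two⟩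
  set C := Subgroup.centralizer ((P : Subgroup G) : Set G) with hCdef
  set N := Subgroup.normalizer ((P : Subgroup G) : Set G) with hNdef
  obtain ⟨⟨t, htC⟩, ht⟩ := exists_prime_orderOf_dvd_card' (G := C) 2 (by rw [hC]; exact dvd_mul_right 2 p)
  rw [Subgroup.orderOf_mk] at ht
  have hCN : C ≤ N := by
    intro x hx
    refine Subgroup.mem_normalizer_fintype (S := ((P : Subgroup G) : Set G)) fun y hy => ?_
    rw [← Subgroup.mem_centralizer_iff.1 hx y hy, mul_inv_cancel_right]
    exact hy
  have hPC : (P : Subgroup G) ≤ C := by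
    intro x hx
    rw [hCdef, Subgroup.mem_centralizer_iff]
    intro y hy
    haveI := isCyclic_of_prime_card hP
    letI : CommGroup (P : Subgroup G) := IsCyclic.commGroup
    exact Subtype.ext_iff.1 (mul_comm (⟨y, hy⟩ : (P : Subgroup G)) ⟨x, hx⟩)
  have hidx : ((P : Subgroup G).subgroupOf C).index = 2 := by
    have h := ((P : Subgroup G).subgroupOf C).card_mul_index
    rw [Nat.card_congr (Subgroup.subgroupOfEquivOfLe hPC).toEquiv, hP, hC, mul_comm 2] at h
    exact Nat.eq_of_mul_eq_mul_left hp.out.pos h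
  have hnotP : ∀ v : G, orderOf v = 2 → v ∉ (P : Subgroup G) := fun v hv hvP => by
    have := Subgroup.orderOf_dvd_natCard _ hvP
    rw [hv, hP] at this
    exact hp2 ((Nat.prime_dvd_prime_iff_eq Nat.prime_two hp.out).1 this).symm
  have huniq : ∀ v ∈ C, orderOf v = 2 → v = t := by
    intro v hvC hv
    have hy : t * v ∈ (P : Subgroup G) := by
      have h := (Subgroup.mul_mem_iff_of_index_two hidx (a := (⟨t, htC⟩ : C)) (b := ⟨v, hvC⟩)).2
        (iff_of_false (fun h => hnotP t ht (Subgroup.mem_subgroupOf.1 h))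
          (fun h => hnotP v hv (Subgroup.mem_subgroupOf.1 h)))
      exact Subgroup.mem_subgroupOf.1 h
    have htt : t * t = 1 := by rw [← pow_two, ← ht, pow_orderOf_eq_one]
    have hvv : v * v = 1 := by rw [← pow_two, ← hv, pow_orderOf_eq_one]
    have hc : t * (t * v) = t * v * t := (Subgroup.mem_centralizer_iff.1 htC _ hy).symm
    rw [← mul_assoc, htt, one_mul] at hc
    have hsq : (t * v) ^ 2 = 1 := by
      rw [pow_two, ← mul_assoc, ← hc, hvv]
    have h1 : orderOf (t * v) ∣ p := hP ▸ Subgroup.orderOf_dvd_natCard _ hy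
    have h2 := Nat.dvd_gcd (orderOf_dvd_of_pow_eq_one hsq) h1
    rw [(Nat.coprime_primes Nat.prime_two hp.out).2 (Ne.symm hp2), Nat.dvd_one, orderOf_eq_one_iff] at h2
    calc v = t * t * v := by rw [htt, one_mul]
      _ = t * (t * v) := mul_assoc _ _ _
      _ = t := by rw [h2, mul_one]
  have hone : Nat.card {v : G // IsConj t v ∧ v ∈ N} = 1 := by
    rw [Nat.card_eq_one_iff_unique]
    refine ⟨⟨fun a b => ?_⟩, ⟨⟨t, IsConj.refl t, hCN htC⟩⟩⟩
    have key : ∀ v : G, IsConj t v → v ∈ N → v = t := by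
      intro v hv hvN
      have ho : orderOf v = 2 := (orderOf_conj_eq hv).trans ht
      refine huniq v ?_ ho
      haveI hnorm : (C.subgroupOf N).Normal := by
        rw [hCdef, hNdef, ← Subgroup.normalizerMonoidHom_ker]
        infer_instance
      have hq : Nat.card (↥N ⧸ C.subgroupOf N) = Nat.card N / (2 * p) := by
        have h := (C.subgroupOf N).card_mul_index
        rw [Nat.card_congr (Subgroup.subgroupOfEquivOfLe hCN).toEquiv, hC] at h
        rw [← h, Subgroup.index, Nat.mul_div_cancel_left _ (Nat.mul_pos Nat.two_pos hp.out.pos)]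
      rw [← hq] at hodd
      have h1 : (QuotientGroup.mk' (C.subgroupOf N) ⟨v, hvN⟩) = 1 := by
        have h2 : orderOf (QuotientGroup.mk' (C.subgroupOf N) ⟨v, hvN⟩) ∣ 2 := by
          refine (orderOf_map_dvd _ _).trans ?_
          rw [Subgroup.orderOf_mk, ho]
        rw [← orderOf_eq_one_iff]
        exact Nat.eq_one_of_dvd_coprimes (Nat.coprime_two_left.2 hodd) h2 (orderOf_dvd_natCard _)
      exact Subgroup.mem_subgroupOf.1 ((QuotientGroup.eq_one_iff _).1 h1)
    exact Subtype.ext ((key a.1 a.2.1 a.2.2).trans (key b.1 b.2.1 b.2.2).symm)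
  have hmul := Classif.SmallOrderKills2.card_fixed_sylow_mul P t
  rw [← hNdef, hone, one_mul] at hmul
  have ht1 : t ≠ 1 := fun h => by rw [h, orderOf_one] at ht; norm_num at ht
  refine ⟨t, ht, _, hmul.symm, Classif.SmallOrderTools.card_fixed_sylow_mod P hP t htC, ?_,
    Classif.SmallOrderTools.four_dvd_moved (α := Sylow p G) hnc t (by rw [← ht, pow_orderOf_eq_one])⟩
  obtain ⟨Q, hQ⟩ := Classif.SmallOrderKills.not_fix_all hn ht1
  exact Finite.card_subtype_lt hQ

end Cfsg.Agent.Lib.Order175560Uniq
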