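import Cfsg.Agent.Lib.Order175560Uniq.Local

/-!
An involution whose centraliser has order `120`, in order `175560`.
-/

set_option autoImplicit false
set_option linter.style.haveILetI false

namespace Cfsg.Agent.Lib.Order175560Uniq

universe u

variable {G : Type u} [Group G] [Finite G]

theorem classSize_conj {u v : G} (h : IsConj u v) : classSize u = classSize v :=
  Nat.card_congr (Equiv.subtypeEquivRight fun y => ⟨fun hy => h.symm.trans hy, fun hy => h.trans hy⟩)

theorem centralizer_card_conj {u v : G} (h : IsConj u v) :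
    Nat.card (Subgroup.centralizer ({u} : Set G)) = Nat.card (Subgroup.centralizer ({v} : Set G)) := by
  have h1 := classSize_mul u
  rw [classSize_conj h] at h1
  have hpos : 0 < classSize v := by
    haveI : Nonempty {y : G // IsConj v y} := ⟨⟨v, IsConj.refl v⟩⟩
    exact Nat.card_pos
  exact Nat.eq_of_mul_eq_mul_left hpos (h1.trans (classSize_mul v).symm)

/-- Classes of different centraliser orders. -/
theorem two_classes {a b : G} (ha : orderOf a = 2) (hb : orderOf b = 2) (hab : ¬ IsConj a b) :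
    classSize a + classSize b ≤ num G 2 := by
  rw [classSize, classSize, ← Nat.card_sum]
  refine Nat.card_le_card_of_injective
    (Sum.elim (fun v => ⟨v.1, (orderOf_conj_eq v.2).trans ha⟩)
      (fun v => ⟨v.1, (orderOf_conj_eq v.2).trans hb⟩)) ?_
  rintro (⟨x, hx⟩ | ⟨x, hx⟩) (⟨y, hy⟩ | ⟨y, hy⟩) h <;> have h' : x = y := congrArg Subtype.val h <;>
    subst h'
  exacts [rfl, absurd (hx.trans hy.symm) hab, absurd (hy.trans hx.symm) hab, rfl]

/-- Three classes. -/
theorem three_classes {a b c : G} (ha : orderOf a = 2) (hb : orderOf b = 2) (hc : orderOf c = 2)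
    (hab : ¬ IsConj a b) (hac : ¬ IsConj a c) (hbc : ¬ IsConj b c) :
    classSize a + classSize b + classSize c ≤ num G 2 := by
  rw [classSize, classSize, classSize, ← Nat.card_sum, ← Nat.card_sum]
  refine Nat.card_le_card_of_injective
    (Sum.elim (Sum.elim (fun v => ⟨v.1, (orderOf_conj_eq v.2).trans ha⟩)
      (fun v => ⟨v.1, (orderOf_conj_eq v.2).trans hb⟩))
      (fun v => ⟨v.1, (orderOf_conj_eq v.2).trans hc⟩)) ?_
  rintro ((⟨x, hx⟩ | ⟨x, hx⟩) | ⟨x, hx⟩) ((⟨y, hy⟩ | ⟨y, hy⟩) | ⟨y, hy⟩) h <;>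
    have h' : x = y := congrArg Subtype.val h <;> subst h'
  exacts [rfl, absurd (hx.trans hy.symm) hab, absurd (hx.trans hy.symm) hac,
    absurd (hy.trans hx.symm) hab, rfl, absurd (hx.trans hy.symm) hbc,
    absurd (hy.trans hx.symm) hac, absurd (hy.trans hx.symm) hbc, rfl]

theorem classSize_le_num {a : G} (ha : orderOf a = 2) : classSize a ≤ num G 2 :=
  Nat.card_le_card_of_injective (fun v => ⟨v.1, (orderOf_conj_eq v.2).trans ha⟩)
    fun _ _ h => Subtype.ext (Subtype.ext_iff.1 h :)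

theorem conj_all {p : ℕ} [Fact p.Prime] (P : Sylow p G) (hP : Nat.card (P : Subgroup G) = p) {u : G}
    (hu : orderOf u = 2) (h4 : ¬ 4 ∣ Nat.card (Subgroup.centralizer ((P : Subgroup G) : Set G)))
    (h : classIn (Subgroup.centralizer ((P : Subgroup G) : Set G)) u ≠ 0) {w : G}
    (hw : w ∈ Subgroup.centralizer ((P : Subgroup G) : Set G)) (hw2 : orderOf w = 2) : IsConj u w := by
  set H := Subgroup.centralizer ((P : Subgroup G) : Set G)
  let f : {v : G // IsConj u v ∧ v ∈ H} → {v : G // v ∈ H ∧ orderOf v = 2} := fun v =>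
    ⟨v.1, v.2.2, (orderOf_conj_eq v.2.1).trans hu⟩
  have hf : Function.Bijective f := (Nat.bijective_iff_injective_and_card f).2
    ⟨fun a b hab => Subtype.ext (congrArg (fun z : {v : G // v ∈ H ∧ orderOf v = 2} => z.1) hab),
      classIn_eq_centNum P hP hu h4 h⟩
  obtain ⟨⟨v, hv, hv'⟩, hvw⟩ := hf.2 ⟨w, hw, hw2⟩
  have h' : v = w := congrArg Subtype.val hvw
  exact h' ▸ hv

/-- A unique involution in a centraliser of order `30`. -/
theorem cyclic_case {p q : ℕ} [Fact p.Prime] [Fact q.Prime] (hpq : p * q = 15) (P : Sylow p G)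
    (hP : Nat.card (P : Subgroup G) = p) (Q : Sylow q G) (hQ : Nat.card (Q : Subgroup G) = q)
    (hc : Nat.card (Subgroup.centralizer ((P : Subgroup G) : Set G)) = 30)
    (h1 : centNum (Subgroup.centralizer ((P : Subgroup G) : Set G)) 2 = 1) :
    30 ∣ Nat.card (Subgroup.centralizer ((Q : Subgroup G) : Set G)) ∧
      (Nat.card (Subgroup.centralizer ((Q : Subgroup G) : Set G)) = 30 →
        centNum (Subgroup.centralizer ((Q : Subgroup G) : Set G)) 2 = 1) := by
  classical
  haveI : Fact (Nat.Prime 2) := ⟨Nat.prime_two⟩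
  have hp := (Fact.out : p.Prime)
  have hq := (Fact.out : q.Prime)
  set H := Subgroup.centralizer ((P : Subgroup G) : Set G) with hH
  have hdq : q ∣ 30 := dvd_trans (Dvd.intro_left _ hpq) (by norm_num)
  obtain ⟨⟨y, hy⟩, hy'⟩ := exists_prime_orderOf_dvd_card' (G := (P : Subgroup G)) p (by rw [hP])
  obtain ⟨⟨z, hzH⟩, hz'⟩ := exists_prime_orderOf_dvd_card' (G := H) 2 (by rw [hc]; norm_num)
  obtain ⟨⟨x, hxH⟩, hx'⟩ := exists_prime_orderOf_dvd_card' (G := H) q (by rw [hc]; exact hdq)
  rw [Subgroup.orderOf_mk] at hy' hz' hx'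
  have hy1 : y ≠ 1 := fun h => by rw [h, orderOf_one] at hy'; exact hp.ne_one hy'.symm
  have hcy : ∀ a ∈ H, Commute a y := fun a ha => (mem_centralizer_prime P hP hy hy1).1 ha
  have hyH : y ∈ H := (mem_centralizer_prime P hP hy hy1).2 (Commute.refl y)
  have huniq : ∀ a ∈ H, orderOf a = 2 → a = z := by
    intro a ha ha2
    haveI := (Nat.card_eq_one_iff_unique.1 h1).1
    exact congrArg Subtype.val (Subsingleton.elim
      (⟨a, ha, ha2⟩ : {v : G // v ∈ H ∧ orderOf v = 2}) ⟨z, hzH, hz'⟩)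
  have hcz : ∀ a ∈ H, Commute a z := by
    intro a ha
    have h := huniq (a * z * a⁻¹) (mul_mem (mul_mem ha hzH) (inv_mem ha))
      (by rw [← MulAut.conj_apply, MulEquiv.orderOf_eq, hz'])
    exact mul_inv_eq_iff_eq_mul.1 h
  have hp2 : p ≠ 2 := by rintro rfl; omega
  have hq2 : q ≠ 2 := by rintro rfl; omega
  have hpqne : p ≠ q := by
    intro h
    subst h
    rcases le_or_gt p 3 with h | h <;> nlinarith
  have e1 : orderOf (y * z) = p * 2 := by
    rw [(hcy z hzH).symm.orderOf_mul_eq_mul_orderOf_of_coprime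
      (by rw [hy', hz']; exact (Nat.coprime_primes hp Nat.prime_two).2 hp2), hy', hz']
  have hcyzx : Commute (y * z) x := ((hcy x hxH).symm).mul_left (hcz x hxH).symm
  have e2 : orderOf (y * z * x) = 30 := by
    rw [hcyzx.orderOf_mul_eq_mul_orderOf_of_coprime (by
      rw [e1, hx']
      exact ((Nat.coprime_primes hp hq).2 hpqne).mul_left ((Nat.coprime_primes Nat.prime_two hq).2
        (Ne.symm hq2))), e1, hx']
    calc p * 2 * q = 2 * (p * q) := by ring
      _ = 30 := by rw [hpq]
  have hHeq : Subgroup.zpowers (y * z * x) = H := by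
    refine Subgroup.eq_of_le_of_card_ge (Subgroup.zpowers_le.2 (mul_mem (mul_mem hyH hzH) hxH)) ?_
    rw [hc, Nat.card_zpowers, e2]
  have hcomm : ∀ a ∈ H, ∀ b ∈ H, Commute a b := by
    intro a ha b hb
    rw [← hHeq] at ha hb
    obtain ⟨i, rfl⟩ := ha
    obtain ⟨j, rfl⟩ := hb
    exact Commute.zpow_zpow_self _ i j
  obtain ⟨R, hR⟩ := (IsPGroup.of_card (n := 1) (by rw [Nat.card_zpowers, hx', pow_one]) :
    IsPGroup q (Subgroup.zpowers x)).exists_le_sylow
  obtain ⟨g, hg⟩ := MulAction.exists_smul_eq G R Q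
  have hmem : g * x * g⁻¹ ∈ (Q : Subgroup G) := by
    rw [← hg, Sylow.coe_subgroup_smul]
    exact ⟨x, hR (Subgroup.mem_zpowers x), rfl⟩
  have hne : g * x * g⁻¹ ≠ 1 := fun h => by
    rw [conj_eq_one_iff] at h
    rw [h, orderOf_one] at hx'
    exact hq.ne_one hx'.symm
  set K := Subgroup.centralizer ((Q : Subgroup G) : Set G) with hK
  have hle : H.map (MulAut.conj g).toMonoidHom ≤ K := by
    rintro _ ⟨a, ha, rfl⟩
    refine (mem_centralizer_prime Q hQ hmem hne).2 ?_
    exact (hcomm a ha x hxH).map (MulAut.conj g).toMonoidHom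
  have hcard : Nat.card (H.map (MulAut.conj g).toMonoidHom) = 30 := by
    rw [Subgroup.card_map_of_injective (MulAut.conj g).injective, hc]
  refine ⟨hcard ▸ Subgroup.card_dvd_of_le hle, fun h30 => ?_⟩
  have heq := Subgroup.eq_of_le_of_card_ge hle (by rw [hcard, h30])
  rw [← h1]
  symm
  refine Nat.card_congr ((MulAut.conj g).toEquiv.subtypeEquiv fun a => ?_)
  rw [MulEquiv.toEquiv_eq_coe, EquivLike.coe_coe, MulEquiv.orderOf_eq, ← heq]
  refine and_congr_left fun _ => ⟨fun ha => ⟨a, ha, rfl⟩, fun ha => ?_⟩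
  obtain ⟨b, hb, hba⟩ := ha
  rw [(MulAut.conj g).injective hba] at hb
  exact hb

/-- An element of order four or eight. -/
theorem one_le_four {u : G} (hu : orderOf u = 2) (hG : Nat.card G = 175560)
    (h8 : ¬ 8 ∣ Nat.card (Subgroup.centralizer ({u} : Set G))) : 1 ≤ num G 4 + num G 8 := by
  haveI : Fact (Nat.Prime 2) := ⟨Nat.prime_two⟩
  obtain ⟨S, hS⟩ := (IsPGroup.of_card (n := 1) (by rw [Nat.card_zpowers, hu, pow_one]) :
    IsPGroup 2 (Subgroup.zpowers u)).exists_le_sylow
  have hcS : Nat.card (S : Subgroup G) = 8 :=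
    SmallGroups.Sylow.card_sylow_eq S (a := 3) (m := 21945) (by rw [hG]; norm_num) (by norm_num)
  by_contra h
  have h4 : IsEmpty {x : G // orderOf x = 4} ∧ IsEmpty {x : G // orderOf x = 8} := by
    constructor
    · exact (Nat.card_eq_zero.1 (show Nat.card _ = 0 from (by omega : num G 4 = 0))).resolve_right
        (not_infinite_iff_finite.2 inferInstance)
    · exact (Nat.card_eq_zero.1 (show Nat.card _ = 0 from (by omega : num G 8 = 0))).resolve_right
        (not_infinite_iff_finite.2 inferInstance)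
  have hsq : ∀ a ∈ (S : Subgroup G), a * a = 1 := by
    intro a ha
    have hd : orderOf a ∣ 2 ^ 3 := by
      have := Subgroup.orderOf_dvd_natCard _ ha
      rwa [hcS] at this
    obtain ⟨j, hj, hj'⟩ := (Nat.dvd_prime_pow Nat.prime_two).1 hd
    rw [← pow_two, ← orderOf_dvd_iff_pow_eq_one, hj']
    interval_cases j
    · norm_num
    · norm_num
    · exact (h4.1.false ⟨a, hj'⟩).elim
    · exact (h4.2.false ⟨a, hj'⟩).elim
  refine h8 (hcS ▸ Subgroup.card_dvd_of_le (fun a ha => Subgroup.mem_centralizer_singleton_iff.2 ?_))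
  have hu' := hS (Subgroup.mem_zpowers u)
  have hinv : ∀ b ∈ (S : Subgroup G), b⁻¹ = b := fun b hb => inv_eq_of_mul_eq_one_right (hsq b hb)
  calc a * u = (a * u)⁻¹ := (hinv _ (mul_mem ha hu')).symm
    _ = u * a := by rw [mul_inv_rev, hinv a ha, hinv u hu']

/-- The congruences on the class of an involution with centraliser order `c`. -/
theorem table : ∀ c ∈ Nat.divisors 120, 2 ∣ c → ∀ k, k = 175560 / c →
    (3 ∣ c → k % 3 = 1 % 3 → c = 6 ∨ c = 24 ∨ c = 60) ∧
      (3 ∣ c → k % 3 = 5 % 3 → c = 12 ∨ c = 30 ∨ c = 120) ∧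
        (5 ∣ c → k % 5 = 1 % 5 → c = 10 ∨ c = 60) ∧
          (5 ∣ c → k % 5 = 3 % 5 → c = 20 ∨ c = 120) ∧
            (8 ∣ c → c = 8 ∨ c = 24 ∨ c = 40 ∨ c = 120) := by
  intro c hc h2 k hk
  subst hk
  revert c
  decide +kernel

/-- The element counts known after the sieve. -/
structure LocalData (P3 : Sylow 3 G) (P5 : Sylow 5 G) (P7 : Sylow 7 G) (P11 : Sylow 11 G)
    (P19 : Sylow 19 G) : Prop where
  n3 : Nat.card (Sylow 3 G) = 2926
  n5 : Nat.card (Sylow 5 G) = 2926
  n7 : Nat.card (Sylow 7 G) = 4180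
  n11 : Nat.card (Sylow 11 G) = 1596
  n19 : Nat.card (Sylow 19 G) = 1540
  c3 : Nat.card (Subgroup.centralizer ((P3 : Subgroup G) : Set G)) = 30
  c5 : Nat.card (Subgroup.centralizer ((P5 : Subgroup G) : Set G)) = 30 ∨
    Nat.card (Subgroup.centralizer ((P5 : Subgroup G) : Set G)) = 15
  c7 : Nat.card (Subgroup.centralizer ((P7 : Subgroup G) : Set G)) = 7
  c11 : Nat.card (Subgroup.centralizer ((P11 : Subgroup G) : Set G)) = 11
  c19 : Nat.card (Subgroup.centralizer ((P19 : Subgroup G) : Set G)) = 19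

/-- The number of involutions of a centraliser of order `30`. -/
theorem centNum_thirty {p : ℕ} [Fact p.Prime] (hp2 : p ≠ 2) (P : Sylow p G)
    (hP : Nat.card (P : Subgroup G) = p)
    (hc : Nat.card (Subgroup.centralizer ((P : Subgroup G) : Set G)) = 30) :
    ∃ s, centNum (Subgroup.centralizer ((P : Subgroup G) : Set G)) 2 = s ∧ s % 2 = 1 ∧
      s * (2 * p) ∣ 30 := by
  haveI : Fact (Nat.Prime 2) := ⟨Nat.prime_two⟩
  obtain ⟨⟨y, hy⟩, hy'⟩ := exists_prime_orderOf_dvd_card' (G := (P : Subgroup G)) p (by rw [hP])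
  rw [Subgroup.orderOf_mk] at hy'
  have hy1 : y ≠ 1 := fun h => by rw [h, orderOf_one] at hy'; exact (Fact.out : p.Prime).ne_one hy'.symm
  obtain ⟨s, hs, hs1, hs2⟩ := centNum_central (q := 2) (r := p)
    (Subgroup.centralizer ((P : Subgroup G) : Set G)) (by rw [hc]; norm_num) (by rw [hc]; norm_num)
    ((mem_centralizer_prime P hP hy hy1).2 (Commute.refl y)) hy'
    ((Nat.coprime_primes Nat.prime_two Fact.out).2 (Ne.symm hp2))
    (fun x hx => ((mem_centralizer_prime P hP hy hy1).1 hx).eq)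
  exact ⟨s, by rw [hs]; simp, hs1, hc ▸ hs2⟩

variable [IsSimpleGroup G] (hG : Nat.card G = 175560)
include hG

theorem localData [Fact (Nat.Prime 3)] [Fact (Nat.Prime 5)] [Fact (Nat.Prime 7)] [Fact (Nat.Prime 11)]
    [Fact (Nat.Prime 19)] (P3 : Sylow 3 G) (P5 : Sylow 5 G) (P7 : Sylow 7 G) (P11 : Sylow 11 G)
    (P19 : Sylow 19 G) : LocalData P3 P5 P7 P11 P19 := by
  classical
  have hnc := noncomm hG
  obtain ⟨⟨n3, c3⟩, ⟨n5, c5⟩, ⟨n7, c7⟩, ⟨n11, c11⟩, ⟨n19, c19⟩⟩ := exists_data hG P3 P5 P7 P11 P19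
  have hP3 := sylow_card hG (by norm_num) (by norm_num) P3
  have hP5 := sylow_card hG (by norm_num) (by norm_num) P5
  have hN : ∀ {p : ℕ} [Fact p.Prime] (P : Sylow p G),
      Nat.card (Subgroup.normalizer ((P : Subgroup G) : Set G)) * Nat.card (Sylow p G) = 175560 := by
    intro p _ P
    have h := (Subgroup.normalizer ((P : Subgroup G) : Set G)).card_mul_index
    rwa [show (Subgroup.normalizer ((P : Subgroup G) : Set G)).index = Nat.card (Sylow p G) from
      P.card_eq_index_normalizer.symm, hG] at h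
  have hdvd : ∀ t : G, Nat.card (Subgroup.centralizer ({t} : Set G)) ∣ 175560 :=
    fun t => hG ▸ Subgroup.card_subgroup_dvd_card _
  have h7 : Nat.card (Subgroup.centralizer ((P7 : Subgroup G) : Set G)) = 7 := by
    refine c7.resolve_right fun h => ?_
    have hN7 := hN P7
    rw [n7] at hN7
    obtain ⟨t, -, f, hf, hf1, hlt, h4⟩ := exists_double P7 (sylow_card hG (by norm_num) (by norm_num) P7)
      hnc (by norm_num) (by rw [n7]; norm_num) (by rw [h])
      (by rw [show Nat.card (Subgroup.normalizer ((P7 : Subgroup G) : Set G)) = 42 by omega]; decide)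
    rw [n7] at hlt h4
    have hd := hdvd t
    rw [hf, show Nat.card (Subgroup.normalizer ((P7 : Subgroup G) : Set G)) = 42 by omega] at hd
    have key : ∀ f ∈ Nat.divisors 4180, f % 7 = 1 → f < 4180 → ¬ 4 ∣ 4180 - f := by decide +kernel
    exact key f (Nat.mem_divisors.2 ⟨Nat.dvd_of_mul_dvd_mul_right (by norm_num : 0 < 42) (by simpa using hd),
      by norm_num⟩) hf1 hlt h4
  have h11 : Nat.card (Subgroup.centralizer ((P11 : Subgroup G) : Set G)) = 11 := by
    refine c11.resolve_right fun h => ?_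
    have hN11 := hN P11
    rw [n11] at hN11
    obtain ⟨t, ht, f, hf, hf1, hlt, h4⟩ := exists_double P11
      (sylow_card hG (by norm_num) (by norm_num) P11) hnc (by norm_num) (by rw [n11]; norm_num) (by rw [h])
      (by rw [show Nat.card (Subgroup.normalizer ((P11 : Subgroup G) : Set G)) = 110 by omega]; decide)
    rw [n11] at hlt h4
    have hd := hdvd t
    rw [show Nat.card (Subgroup.normalizer ((P11 : Subgroup G) : Set G)) = 110 by omega] at hf
    rw [hf] at hd
    have key : ∀ f ∈ Nat.divisors 1596, f % 11 = 1 → f < 1596 → 4 ∣ 1596 - f → f = 12 := by decide +kernel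
    obtain rfl := key f (Nat.mem_divisors.2 ⟨Nat.dvd_of_mul_dvd_mul_right (by norm_num : 0 < 110)
      (by simpa using hd), by norm_num⟩) hf1 hlt h4
    have hk := classSize_mul t
    rw [hf, hG] at hk
    have hk' : classSize t = 133 := by omega
    have h3ne := classIn_ne_zero P3 hP3 (u := t) (by rw [hf]; norm_num)
    have h5ne := classIn_ne_zero P5 hP5 (u := t) (by rw [hf]; norm_num)
    have e3 := classIn_eq_centNum P3 hP3 ht (by rw [c3]; norm_num) h3ne
    obtain ⟨s, hs, hs1, hs2⟩ := centNum_thirty (by norm_num) P3 hP3 c3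
    have m3 := class_mod P3 hP3 t
    rw [hk', e3, hs] at m3
    have key3 : ∀ s ∈ Nat.divisors 30, s % 2 = 1 → s * 6 ∣ 30 → 133 % 3 = s % 3 → s = 1 := by decide +kernel
    obtain rfl := key3 s (Nat.mem_divisors.2 ⟨dvd_trans (dvd_mul_right _ _) hs2, by norm_num⟩) hs1 hs2 m3
    obtain ⟨h30, h30'⟩ := cyclic_case (by norm_num) P3 hP3 P5 hP5 c3 hs
    have hc5 : Nat.card (Subgroup.centralizer ((P5 : Subgroup G) : Set G)) = 30 := by
      rcases c5 with h' | h'
      · exact h'
      · rw [h'] at h30; norm_num at h30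
    have e5 := classIn_eq_centNum P5 hP5 ht (by rw [hc5]; norm_num) h5ne
    have m5 := class_mod P5 hP5 t
    rw [hk', e5, h30' hc5] at m5
    norm_num at m5
  have h19 : Nat.card (Subgroup.centralizer ((P19 : Subgroup G) : Set G)) = 19 := by
    refine c19.resolve_right fun h => ?_
    have hN19 := hN P19
    rw [n19] at hN19
    obtain ⟨t, ht, f, hf, hf1, hlt, h4⟩ := exists_double P19
      (sylow_card hG (by norm_num) (by norm_num) P19) hnc (by norm_num) (by rw [n19]; norm_num) (by rw [h])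
      (by rw [show Nat.card (Subgroup.normalizer ((P19 : Subgroup G) : Set G)) = 114 by omega]; decide)
    rw [n19] at hlt h4
    have hd := hdvd t
    rw [show Nat.card (Subgroup.normalizer ((P19 : Subgroup G) : Set G)) = 114 by omega] at hf
    rw [hf] at hd
    have key : ∀ f ∈ Nat.divisors 1540, f % 19 = 1 → f < 1540 → 4 ∣ 1540 - f → f = 20 := by decide +kernel
    obtain rfl := key f (Nat.mem_divisors.2 ⟨Nat.dvd_of_mul_dvd_mul_right (by norm_num : 0 < 114)
      (by simpa using hd), by norm_num⟩) hf1 hlt h4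
    have hk := classSize_mul t
    rw [hf, hG] at hk
    have hk' : classSize t = 77 := by omega
    have h5ne := classIn_ne_zero P5 hP5 (u := t) (by rw [hf]; norm_num)
    have hc5 : Nat.card (Subgroup.centralizer ((P5 : Subgroup G) : Set G)) = 30 := by
      refine c5.resolve_right fun h' => ?_
      obtain ⟨⟨v, hv, hvC⟩⟩ := (Nat.card_ne_zero.1 h5ne).1
      have := Subgroup.orderOf_dvd_natCard _ hvC
      rw [orderOf_conj_eq hv, ht, h'] at this
      norm_num at this
    have e5 := classIn_eq_centNum P5 hP5 ht (by rw [hc5]; norm_num) h5ne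
    obtain ⟨s, hs, hs1, hs2⟩ := centNum_thirty (by norm_num) P5 hP5 hc5
    have m5 := class_mod P5 hP5 t
    rw [hk', e5, hs] at m5
    have key5 : ∀ s ∈ Nat.divisors 30, s % 2 = 1 → s * 10 ∣ 30 → 77 % 5 ≠ s % 5 := by decide +kernel
    exact key5 s (Nat.mem_divisors.2 ⟨dvd_trans (dvd_mul_right _ _) hs2, by norm_num⟩) hs1 hs2 m5
  exact ⟨n3, n5, n7, n11, n19, c3, c5, h7, h11, h19⟩

/-- The centraliser order of an involution divides `120`. -/
theorem centralizer_mem [Fact (Nat.Prime 3)] [Fact (Nat.Prime 5)] [Fact (Nat.Prime 7)]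
    [Fact (Nat.Prime 11)] [Fact (Nat.Prime 19)] {P3 : Sylow 3 G} {P5 : Sylow 5 G} {P7 : Sylow 7 G}
    {P11 : Sylow 11 G} {P19 : Sylow 19 G} (D : LocalData P3 P5 P7 P11 P19) {u : G} (hu : orderOf u = 2) :
    ∃ c ∈ Nat.divisors 120, 2 ∣ c ∧ Nat.card (Subgroup.centralizer ({u} : Set G)) = c ∧
      classSize u = 175560 / c := by
  have hno : ∀ {p : ℕ} [Fact p.Prime] (P : Sylow p G), Nat.card (P : Subgroup G) = p →
      Nat.card (Subgroup.centralizer ((P : Subgroup G) : Set G)) % 2 = 1 →
      ¬ p ∣ Nat.card (Subgroup.centralizer ({u} : Set G)) := by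
    intro p _ P hP ho hd
    obtain ⟨⟨v, hv, hvC⟩⟩ := (Nat.card_ne_zero.1 (classIn_ne_zero P hP hd)).1
    have := Subgroup.orderOf_dvd_natCard _ hvC
    rw [orderOf_conj_eq hv, hu] at this
    omega
  set c := Nat.card (Subgroup.centralizer ({u} : Set G)) with hc
  have e7 : c.Coprime 7 := Nat.Coprime.symm ((Nat.Prime.coprime_iff_not_dvd (by norm_num)).2
    (hno P7 (sylow_card hG (by norm_num) (by norm_num) P7) (by rw [D.c7])))
  have e11 : c.Coprime 11 := Nat.Coprime.symm ((Nat.Prime.coprime_iff_not_dvd (by norm_num)).2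
    (hno P11 (sylow_card hG (by norm_num) (by norm_num) P11) (by rw [D.c11])))
  have e19 : c.Coprime 19 := Nat.Coprime.symm ((Nat.Prime.coprime_iff_not_dvd (by norm_num)).2
    (hno P19 (sylow_card hG (by norm_num) (by norm_num) P19) (by rw [D.c19])))
  have hd : c ∣ 120 := by
    have h : c ∣ 120 * (7 * 11 * 19) := by
      rw [show 120 * (7 * 11 * 19) = 175560 by norm_num, ← hG]
      exact Subgroup.card_subgroup_dvd_card _
    exact ((e7.mul_right e11).mul_right e19).dvd_of_dvd_mul_right h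
  have h2 : 2 ∣ c := hu ▸ Subgroup.orderOf_dvd_natCard _ (Subgroup.mem_centralizer_singleton_iff.2 rfl)
  have hk := classSize_mul u
  rw [hG, ← hc] at hk
  exact ⟨c, Nat.mem_divisors.2 ⟨hd, by norm_num⟩, h2, rfl,
    (Nat.div_eq_of_eq_mul_left (Nat.card_pos) hk.symm).symm⟩

/-- The element count. -/
theorem count_le [Fact (Nat.Prime 3)] [Fact (Nat.Prime 5)] [Fact (Nat.Prime 7)] [Fact (Nat.Prime 11)]
    [Fact (Nat.Prime 19)] {P3 : Sylow 3 G} {P5 : Sylow 5 G} {P7 : Sylow 7 G} {P11 : Sylow 11 G}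
    {P19 : Sylow 19 G} (D : LocalData P3 P5 P7 P11 P19) :
    109725 + num G 2 + num G 4 + num G 8 +
        5852 * centNum (Subgroup.centralizer ((P3 : Subgroup G) : Set G)) 2 +
        11704 * centNum (Subgroup.centralizer ((P5 : Subgroup G) : Set G)) 2 +
        5852 * centNum (Subgroup.centralizer ((P3 : Subgroup G) : Set G)) 10 ≤ 175560 := by
  have hP3 := sylow_card hG (p := 3) (by norm_num) (by norm_num)
  have hP5 := sylow_card hG (p := 5) (by norm_num) (by norm_num)
  have s3 := num_prime (G := G) hP3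
  have s5 := num_prime (G := G) hP5
  have s7 := num_prime (G := G) (fun R : Sylow 7 G => sylow_card hG (by norm_num) (by norm_num) R)
  have s11 := num_prime (G := G) (fun R : Sylow 11 G => sylow_card hG (by norm_num) (by norm_num) R)
  have s19 := num_prime (G := G) (fun R : Sylow 19 G => sylow_card hG (by norm_num) (by norm_num) R)
  rw [D.n3] at s3; rw [D.n5] at s5; rw [D.n7] at s7; rw [D.n11] at s11; rw [D.n19] at s19
  have e15 := num_mul P3 (hP3 P3) (m := 5) (by norm_num) (by norm_num)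
  have e6 := num_mul P3 (hP3 P3) (m := 2) (by norm_num) (by norm_num)
  have e10 := num_mul P5 (hP5 P5) (m := 2) (by norm_num) (by norm_num)
  have e30 := num_mul P3 (hP3 P3) (m := 10) (by norm_num) (by norm_num)
  rw [s3] at e15 e6 e30
  rw [s5] at e10
  obtain ⟨s, hs, hs1, -⟩ := centNum_prime (q := 5) (Subgroup.centralizer ((P3 : Subgroup G) : Set G))
    (by rw [D.c3]; norm_num) (by rw [D.c3]; norm_num)
  have hsum := sum_num_le (G := G) [1, 2, 4, 8, 3, 5, 7, 11, 19, 3 * 5, 3 * 2, 5 * 2, 3 * 10] (by decide)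
  simp only [List.map_cons, List.map_nil, List.sum_cons, List.sum_nil, hG, s3, s5, s7, s11, s19, e15,
    e6, e10, e30, hs] at hsum
  have h1 := num_one (G := G)
  have hs0 : 1 ≤ s := by omega
  omega

/-- An involution with centraliser of order `120`. -/
theorem exists_one_twenty [Fact (Nat.Prime 3)] [Fact (Nat.Prime 5)] [Fact (Nat.Prime 7)]
    [Fact (Nat.Prime 11)] [Fact (Nat.Prime 19)] {P3 : Sylow 3 G} {P5 : Sylow 5 G} {P7 : Sylow 7 G}
    {P11 : Sylow 11 G} {P19 : Sylow 19 G} (D : LocalData P3 P5 P7 P11 P19) :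
    ∃ t : G, orderOf t = 2 ∧ Nat.card (Subgroup.centralizer ({t} : Set G)) = 120 := by
  classical
  by_contra hno
  push Not at hno
  haveI : Fact (Nat.Prime 2) := ⟨Nat.prime_two⟩
  have hP3 := sylow_card hG (p := 3) (by norm_num) (by norm_num) P3
  have hP5 := sylow_card hG (p := 5) (by norm_num) (by norm_num) P5
  have hc3 : ¬ 4 ∣ Nat.card (Subgroup.centralizer ((P3 : Subgroup G) : Set G)) := by
    rw [D.c3]; norm_num
  have hcount := count_le hG D
  set C3 := Subgroup.centralizer ((P3 : Subgroup G) : Set G) with hC3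
  set C5 := Subgroup.centralizer ((P5 : Subgroup G) : Set G) with hC5
  -- an involution in the centre of a Sylow subgroup
  obtain ⟨z, hz, hz8⟩ : ∃ z : G, orderOf z = 2 ∧ 8 ∣ Nat.card (Subgroup.centralizer ({z} : Set G)) := by
    obtain ⟨S⟩ := (inferInstance : Nonempty (Sylow 2 G))
    have hcS : Nat.card (S : Subgroup G) = 8 :=
      SmallGroups.Sylow.card_sylow_eq S (a := 3) (m := 21945) (by rw [hG]; norm_num) (by norm_num)
    haveI : Nontrivial ↥(S : Subgroup G) := Finite.one_lt_card_iff_nontrivial.1 (by omega)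
    haveI : Nontrivial (Subgroup.center ↥(S : Subgroup G)) := S.2.center_nontrivial
    have hd : 2 ∣ Nat.card (Subgroup.center ↥(S : Subgroup G)) := by
      obtain ⟨k, hk⟩ := (S.2.to_subgroup (Subgroup.center ↥(S : Subgroup G))).exists_card_eq
      have h1 := Finite.one_lt_card (α := Subgroup.center ↥(S : Subgroup G))
      rcases k with _ | k
      · rw [hk] at h1; norm_num at h1
      · rw [hk]; exact dvd_pow_self 2 (Nat.succ_ne_zero k)
    obtain ⟨⟨z, hzc⟩, hz⟩ := exists_prime_orderOf_dvd_card' (G := Subgroup.center ↥(S : Subgroup G)) 2 hd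
    rw [Subgroup.orderOf_mk] at hz
    refine ⟨z, by rw [Subgroup.orderOf_coe]; exact hz, hcS ▸ Subgroup.card_dvd_of_le fun a ha => ?_⟩
    exact Subgroup.mem_centralizer_singleton_iff.2
      (Subtype.ext_iff.1 (Subgroup.mem_center_iff.1 hzc ⟨a, ha⟩))
  obtain ⟨cz, hcz, hcz2, hzc, hzk⟩ := centralizer_mem hG D hz
  have hz120 : cz ≠ 120 := fun h => hno z hz (hzc.trans h)
  obtain ⟨v, hv3, hv⟩ : ∃ v, v ∈ C3 ∧ orderOf v = 2 := by
    obtain ⟨⟨v, hv⟩, hv'⟩ := exists_prime_orderOf_dvd_card' (G := C3) 2 (by rw [hC3, D.c3]; norm_num)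
    exact ⟨v, hv, by rwa [Subgroup.orderOf_mk] at hv'⟩
  have hvne : classIn C3 v ≠ 0 := Nat.card_ne_zero.2 ⟨⟨⟨v, IsConj.refl v, hv3⟩⟩, inferInstance⟩
  obtain ⟨cv, hcv, hcv2, hvc, hvk⟩ := centralizer_mem hG D hv
  have hv3d : 3 ∣ cv := hvc ▸ dvd_of_classIn P3 hP3 hvne
  obtain ⟨s, hs, hs1, hs2⟩ := centNum_thirty (by norm_num) P3 hP3 D.c3
  have hmv := class_mod P3 hP3 v
  rw [classIn_eq_centNum P3 hP3 hv hc3 hvne, hs, hvk] at hmv
  rw [hs] at hcount
  -- a class meeting `C3`
  have hmeet : ∀ u : G, orderOf u = 2 → 3 ∣ Nat.card (Subgroup.centralizer ({u} : Set G)) → IsConj u v :=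
    fun u hu hd => conj_all P3 hP3 hu hc3 (classIn_ne_zero P3 hP3 hd) hv3 hv
  have hT := table cv hcv hcv2 _ rfl
  have hTz := table cz hcz hcz2 _ rfl
  have key3 : ∀ s ∈ Nat.divisors 30, s % 2 = 1 → s * 6 ∣ 30 → s = 1 ∨ s = 5 := by decide +kernel
  have key5 : ∀ s ∈ Nat.divisors 30, s % 2 = 1 → s * 10 ∣ 30 → s = 1 ∨ s = 3 := by decide +kernel
  have hfive : ∀ u : G, ∀ cu : ℕ, orderOf u = 2 → Nat.card (Subgroup.centralizer ({u} : Set G)) = cu →
      classSize u = 175560 / cu → 5 ∣ cu → Nat.card C5 = 30 ∧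
        (175560 / cu) % 5 = centNum C5 2 % 5 := by
    intro u cu hu hcu hku hd
    have hne := classIn_ne_zero P5 hP5 (u := u) (hcu ▸ hd)
    have h30 : Nat.card C5 = 30 := D.c5.resolve_right fun h' => by
      obtain ⟨⟨a, ha, haC⟩⟩ := (Nat.card_ne_zero.1 hne).1
      have := Subgroup.orderOf_dvd_natCard _ haC
      rw [orderOf_conj_eq ha, hu, h'] at this
      norm_num at this
    refine ⟨h30, ?_⟩
    rw [← hku, class_mod P5 hP5 u, classIn_eq_centNum P5 hP5 hu (by rw [← hC5, h30]; norm_num) hne]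
  rcases key3 s (Nat.mem_divisors.2 ⟨dvd_trans (dvd_mul_right _ _) hs2, by norm_num⟩) hs1 hs2 with rfl | rfl
  · -- the centraliser of `P3` is cyclic
    obtain ⟨h30, h30'⟩ := cyclic_case (by norm_num) P3 hP3 P5 hP5 D.c3 hs
    have hc5 : Nat.card C5 = 30 := by
      rcases D.c5 with h' | h'
      · exact h'
      · rw [h'] at h30; norm_num at h30
    have hs5 := h30' hc5
    -- `v` commutes with an element of order five
    obtain ⟨⟨x, hxC⟩, hx⟩ := exists_prime_orderOf_dvd_card' (G := C3) 5 (by rw [hC3, D.c3]; norm_num)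
    rw [Subgroup.orderOf_mk] at hx
    have hvx : Commute v x := by
      haveI := (Nat.card_eq_one_iff_unique.1 hs).1
      have h : x * v * x⁻¹ = v := congrArg Subtype.val (Subsingleton.elim
        (⟨x * v * x⁻¹, mul_mem (mul_mem hxC hv3) (inv_mem hxC),
          by rw [← MulAut.conj_apply, MulEquiv.orderOf_eq, hv]⟩ : {a : G // a ∈ C3 ∧ orderOf a = 2})
        ⟨v, hv3, hv⟩)
      exact (mul_inv_eq_iff_eq_mul.1 h).symm
    have hv5 : 5 ∣ cv := hvc ▸ hx ▸ Subgroup.orderOf_dvd_natCard _
      (Subgroup.mem_centralizer_singleton_iff.2 hvx.symm.eq)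
    have hcv60 : cv = 60 := by
      rcases hT.1 hv3d hmv with h | h | h <;> omega
    -- the central involution
    have hcz8 : cz = 8 := by
      rcases hTz.2.2.2.2 (hzc ▸ hz8) with h | h | h | h
      · exact h
      · exfalso
        have := centralizer_card_conj (hmeet z hz (by rw [hzc, h]; norm_num))
        omega
      · exfalso
        obtain ⟨-, h5⟩ := hfive z cz hz hzc hzk (by omega)
        rw [hs5, h] at h5
        norm_num at h5
      · exact absurd h hz120
    have hE2 := two_classes hv hz (fun h => by have := centralizer_card_conj h; omega)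
    rw [hvk, hzk, hcv60, hcz8] at hE2
    have hE4 := one_le_four hv hG (by rw [hvc, hcv60]; norm_num)
    have h10 : 4 ≤ centNum C3 10 := by
      have ho : orderOf (v * x) = 10 := by
        rw [hvx.orderOf_mul_eq_mul_orderOf_of_coprime (by rw [hv, hx]; norm_num), hv, hx]
      let f : Fin 4 → {a : G // a ∈ C3 ∧ orderOf a = 10} := fun i =>
        ⟨(v * x) ^ (![1, 3, 7, 9] i), pow_mem (mul_mem hv3 hxC) _, by
          rw [orderOf_pow, ho]; fin_cases i <;> rfl⟩
      have hf : Function.Injective f := fun i j h => by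
        have h' := congrArg Subtype.val h
        have := pow_injOn_Iio_orderOf (x := v * x)
          (Set.mem_Iio.2 (by rw [ho]; fin_cases i <;> norm_num))
          (Set.mem_Iio.2 (by rw [ho]; fin_cases j <;> norm_num)) h'
        revert this
        fin_cases i <;> fin_cases j <;> simp
      simpa [centNum] using Nat.card_le_card_of_injective f hf
    rw [hs5] at hcount
    omega
  · -- five involutions
    have hcv12 : cv = 12 := by
      rcases hT.2.1 hv3d hmv with h | h | h
      · exact h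
      · exfalso
        obtain ⟨h30, h5⟩ := hfive v cv hv hvc hvk (by omega)
        obtain ⟨s5, hs5, hs51, hs52⟩ := centNum_thirty (by norm_num) P5 hP5 h30
        rw [hs5, h] at h5
        rcases key5 s5 (Nat.mem_divisors.2 ⟨dvd_trans (dvd_mul_right _ _) hs52, by norm_num⟩) hs51 hs52
          with rfl | rfl <;> norm_num at h5
      · exact absurd (hvc.trans h) (hno v hv)
    have hcz8 : cz = 8 := by
      rcases hTz.2.2.2.2 (hzc ▸ hz8) with h | h | h | h
      · exact h
      · exfalso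
        have := centralizer_card_conj (hmeet z hz (by rw [hzc, h]; norm_num))
        omega
      · exfalso
        obtain ⟨h30, h5⟩ := hfive z cz hz hzc hzk (by omega)
        obtain ⟨s5, hs5, hs51, hs52⟩ := centNum_thirty (by norm_num) P5 hP5 h30
        rw [hs5, h] at h5
        rcases key5 s5 (Nat.mem_divisors.2 ⟨dvd_trans (dvd_mul_right _ _) hs52, by norm_num⟩) hs51 hs52
          with rfl | rfl <;> norm_num at h5
      · exact absurd h hz120
    rcases D.c5 with h30 | h15
    · obtain ⟨s5, hs5, hs51, hs52⟩ := centNum_thirty (by norm_num) P5 hP5 h30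
      rw [← hC5] at hs5
      rw [hs5] at hcount
      rcases key5 s5 (Nat.mem_divisors.2 ⟨dvd_trans (dvd_mul_right _ _) hs52, by norm_num⟩) hs51 hs52
        with rfl | rfl
      · obtain ⟨-, h'⟩ := cyclic_case (by norm_num) P5 hP5 P3 hP3 h30 hs5
        have h'' := h' D.c3
        rw [← hC3, hs] at h''
        norm_num at h''
      obtain ⟨u, hu5, hu⟩ : ∃ u, u ∈ C5 ∧ orderOf u = 2 := by
        obtain ⟨⟨u, hu⟩, hu'⟩ := exists_prime_orderOf_dvd_card' (G := C5) 2 (by rw [hC5, h30]; norm_num)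
        exact ⟨u, hu, by rwa [Subgroup.orderOf_mk] at hu'⟩
      have hune : classIn C5 u ≠ 0 := Nat.card_ne_zero.2 ⟨⟨⟨u, IsConj.refl u, hu5⟩⟩, inferInstance⟩
      obtain ⟨cu, hcu, hcu2, huc, huk⟩ := centralizer_mem hG D hu
      have hu5d : 5 ∣ cu := huc ▸ dvd_of_classIn P5 hP5 hune
      obtain ⟨-, h5⟩ := hfive u cu hu huc huk hu5d
      rw [hs5] at h5
      have hcu20 : cu = 20 := by
        rcases (table cu hcu hcu2 _ rfl).2.2.2.1 hu5d h5 with h | h
        · exact h
        · exact absurd (huc.trans h) (hno u hu)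
      have hE2 := three_classes hv hu hz (fun h => by have := centralizer_card_conj h; omega)
        (fun h => by have := centralizer_card_conj h; omega)
        (fun h => by have := centralizer_card_conj h; omega)
      rw [hvk, huk, hzk, hcv12, hcu20, hcz8] at hE2
      omega
    · have hE2 := two_classes hv hz (fun h => by have := centralizer_card_conj h; omega)
      rw [hvk, hzk, hcv12, hcz8] at hE2
      have hE4 := one_le_four hv hG (by rw [hvc, hcv12]; norm_num)
      omega

end Cfsg.Agent.Lib.Order175560Uniq
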