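import Cfsg.Agent.Lib.Classif.Order175560
import Cfsg.Agent.Lib.Order175560Uniq.Count

/-!
The admissible local data in a simple group of order `175560`: commuting pairs are counted twice
and the elements counted so far must fit.
-/

set_option autoImplicit false
set_option linter.style.haveILetI false

namespace Cfsg.Agent.Lib.Order175560Uniq

open Cfsg.Agent.Lib.Classif.Order175560 Cfsg.Agent.Lib.Classif.SmallOrderKills3

universe u

/-- The pairs (number of Sylow subgroups, centraliser order) left by the local criteria. -/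
def cand (p : ℕ) : List (ℕ × ℕ) :=
  ((pairs 175560 p).filter fun ne => !deadCase 175560 p ne.1 ne.2).map fun ne =>
    (ne.1, 175560 / (ne.1 * ne.2))

/-- The candidates, listed. -/
def list3 : List (ℕ × ℕ) :=
  [(70, 1254), (76, 1155), (133, 660), (154, 570), (190, 462), (220, 399), (385, 228), (418, 210),
    (532, 165), (1045, 84), (1330, 66), (1540, 57), (2926, 30), (4180, 21), (7315, 12), (29260, 3)]

/-- The candidates, listed. -/
def list5 : List (ℕ × ℕ) :=
  [(76, 1155), (231, 380), (231, 190), (266, 330), (266, 165), (836, 105), (1596, 55), (2926, 30),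
    (2926, 15), (17556, 5)]

/-- The candidates, listed. -/
def list7 : List (ℕ × ℕ) :=
  [(190, 462), (190, 308), (190, 154), (330, 266), (1254, 70), (4180, 21), (4180, 14), (4180, 7)]

/-- The candidates, listed. -/
def list11 : List (ℕ × ℕ) :=
  [(133, 660), (133, 264), (133, 132), (210, 418), (1596, 55), (1596, 22), (1596, 11)]

/-- The candidates, listed. -/
def list19 : List (ℕ × ℕ) := [(1540, 57), (1540, 38), (1540, 19)]

theorem cand_eq : cand 3 = list3 ∧ cand 5 = list5 ∧ cand 7 = list7 ∧ cand 11 = list11 ∧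
    cand 19 = list19 := by decide +kernel

/-- The two counts of commuting pairs agree. -/
def pairOK (p q : ℕ) (a b : ℕ × ℕ) : Bool :=
  if a.2 % q = 0 then
    decide (b.2 % p = 0) && (List.range (a.2 / q + 1)).any fun s =>
      decide (s % q = 1) && decide ((a.2 / q) % s = 0) && decide (a.1 * s % b.1 = 0) &&
        decide ((a.1 * s / b.1) % p = 1) && decide ((b.2 / p) % (a.1 * s / b.1) = 0)
  else decide (b.2 % p ≠ 0)

/-- A lower bound for the elements of order `p * q`. -/
def pairNum (p q : ℕ) (a b : ℕ × ℕ) : ℕ :=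
  if a.2 % q = 0 then max a.1 b.1 * (p - 1) * (q - 1) else 0

/-- A lower bound for the elements of order `p * 2 ^ k`, `k ≥ 1`. -/
def twoNum (p : ℕ) (a : ℕ × ℕ) : ℕ := a.1 * (p - 1) * (Nat.gcd a.2 8 - 1)

/-- The elements counted. -/
def total (a b c d e : ℕ × ℕ) : ℕ :=
  e.1 * 2 + d.1 * 4 + c.1 * 6 + b.1 * 10 + a.1 * 18 +
    pairNum 3 5 e d + pairNum 3 7 e c + pairNum 3 11 e b + pairNum 3 19 e a + pairNum 5 7 d c +
    pairNum 5 11 d b + pairNum 5 19 d a + pairNum 7 11 c b + pairNum 7 19 c a + pairNum 11 19 b a +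
    twoNum 3 e + twoNum 5 d + twoNum 7 c + twoNum 11 b + twoNum 19 a

/-- What remains. -/
def Survives (a b c d e : ℕ × ℕ) : Bool :=
  decide (e = (2926, 30)) && (decide (d = (2926, 30)) || decide (d = (2926, 15))) &&
    (decide (c = (4180, 7)) || decide (c = (4180, 14))) &&
      (decide (b = (1596, 11)) || decide (b = (1596, 22))) &&
        (decide (a = (1540, 19)) || decide (a = (1540, 38)))

theorem sieve : (list19.all fun a => list11.all fun b => !pairOK 11 19 b a ||
    list7.all fun c => !pairOK 7 19 c a || !pairOK 7 11 c b ||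
      list5.all fun d => !pairOK 5 19 d a || !pairOK 5 11 d b || !pairOK 5 7 d c ||
        list3.all fun e => !pairOK 3 19 e a || !pairOK 3 11 e b || !pairOK 3 7 e c || !pairOK 3 5 e d ||
          decide (175560 < 1 + total a b c d e) || Survives a b c d e) = true := by
  decide +kernel

variable {G : Type u} [Group G] [Finite G] [IsSimpleGroup G] (hG : Nat.card G = 175560)
include hG

theorem noncomm : ¬ IsMulCommutative G := not_comm hG (by norm_num)

theorem exists_cand {p : ℕ} [Fact p.Prime] (hp2 : p ≠ 2) (hgp : p ∣ 175560)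
    (hm : (175560 / p) % p ≠ 0) (hm1 : 175560 / p ≠ 1) (P : Sylow p G) :
    ∃ a ∈ cand p, Nat.card (P : Subgroup G) = p ∧ Nat.card (Sylow p G) = a.1 ∧
      Nat.card (Subgroup.centralizer ((P : Subgroup G) : Set G)) = a.2 ∧
      Nat.card (Subgroup.normalizer ((P : Subgroup G) : Set G)) * a.1 = 175560 ∧ a.1 ≠ 1 := by
  have hnc := noncomm hG
  obtain ⟨n, e, c, hmem, hP, hn, hn1, hc, -, hC, hN, hrel⟩ := exists_pair hnc hG hgp hm hm1 P
  refine ⟨(n, c), ?_, hP, hn, hC, ?_, hn1⟩
  · refine List.mem_map.2 ⟨(n, e), List.mem_filter.2 ⟨hmem, ?_⟩, by rw [hc]⟩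
    by_contra hdead
    simp only [Bool.not_eq_true', Bool.not_eq_false] at hdead
    exact deadCase_false hnc hG hp2 P hP hn hn1 hc hC hN hrel hdead
  · have h := (Subgroup.normalizer ((P : Subgroup G) : Set G)).card_mul_index
    rw [show (Subgroup.normalizer ((P : Subgroup G) : Set G)).index = n from
      P.card_eq_index_normalizer.symm.trans hn, hG] at h
    exact h

theorem sylow_card {p : ℕ} [Fact p.Prime] (hgp : p ∣ 175560) (hm : (175560 / p) % p ≠ 0)
    (P : Sylow p G) : Nat.card (P : Subgroup G) = p := by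
  have := SmallGroups.Sylow.card_sylow_eq P (a := 1) (m := 175560 / p)
    (by rw [pow_one, Nat.mul_div_cancel' hgp, hG]) (fun h => hm (Nat.mod_eq_zero_of_dvd h))
  rwa [pow_one] at this

theorem pair_facts {p q : ℕ} [Fact p.Prime] [Fact q.Prime] (hpq : p ≠ q) (hgp : p ∣ 175560)
    (hmp : (175560 / p) % p ≠ 0) (hgq : q ∣ 175560) (hmq : (175560 / q) % q ≠ 0) (P : Sylow p G)
    (Q : Sylow q G) {a b : ℕ × ℕ} (ha : Nat.card (Sylow p G) = a.1)
    (hac : Nat.card (Subgroup.centralizer ((P : Subgroup G) : Set G)) = a.2)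
    (hb : Nat.card (Sylow q G) = b.1)
    (hbc : Nat.card (Subgroup.centralizer ((Q : Subgroup G) : Set G)) = b.2) :
    pairOK p q a b = true ∧ pairNum p q a b ≤ num G (p * q) := by
  have hp := (Fact.out : p.Prime)
  have hq := (Fact.out : q.Prime)
  have hcop : p.Coprime q := (Nat.coprime_primes hp hq).2 hpq
  have hsq : ∀ {r : ℕ}, r.Prime → r ∣ 175560 → (175560 / r) % r ≠ 0 →
      ∀ H : Subgroup G, ¬ r ^ 2 ∣ Nat.card H := by
    intro r hr h1 h2 H h4
    have h3 := h4.trans (Subgroup.card_subgroup_dvd_card H)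
    rw [hG] at h3
    refine h2 (Nat.mod_eq_zero_of_dvd ((Nat.mul_dvd_mul_iff_left hr.pos).1 ?_))
    rw [Nat.mul_div_cancel' h1, ← pow_two]
    exact h3
  have e1 := num_mul P (sylow_card hG hgp hmp P) hcop hq.pos
  have e2 := num_mul Q (sylow_card hG hgq hmq Q) hcop.symm hp.pos
  rw [mul_comm q p] at e2
  rw [num_prime (fun R => sylow_card hG hgp hmp R), ha] at e1
  rw [num_prime (fun R => sylow_card hG hgq hmq R), hb] at e2
  have ha0 : 0 < a.1 := ha ▸ Nat.card_pos
  have hb0 : 0 < b.1 := hb ▸ Nat.card_pos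
  have hp1 : 0 < p - 1 := Nat.sub_pos_of_lt hp.one_lt
  have hq1 : 0 < q - 1 := Nat.sub_pos_of_lt hq.one_lt
  by_cases hd : q ∣ a.2
  · obtain ⟨s, hs, hs1, hs2⟩ := centNum_prime (q := q) (Subgroup.centralizer ((P : Subgroup G) : Set G)) (hsq hq hgq hmq _) (hac.symm ▸ hd)
    have hs0 : 0 < s := Nat.pos_of_ne_zero fun h => by simp [h] at hs1
    have hd' : p ∣ b.2 := by
      by_contra h
      rw [centNum_eq_zero _ (hbc.symm ▸ h), mul_zero, e1, hs] at e2
      exact absurd e2 (Nat.mul_pos (Nat.mul_pos ha0 hp1) (Nat.mul_pos hs0 hq1)).ne'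
    obtain ⟨s', hs', hs1', hs2'⟩ := centNum_prime (q := p) (Subgroup.centralizer ((Q : Subgroup G) : Set G)) (hsq hp hgp hmp _) (hbc.symm ▸ hd')
    rw [hac] at hs2
    rw [hbc] at hs2'
    rw [hs] at e1
    rw [hs'] at e2
    have heq : a.1 * s = b.1 * s' := by
      refine Nat.eq_of_mul_eq_mul_right (Nat.mul_pos hp1 hq1) ?_
      calc a.1 * s * ((p - 1) * (q - 1)) = a.1 * (p - 1) * (s * (q - 1)) := by ring
        _ = b.1 * (q - 1) * (s' * (p - 1)) := e1.symm.trans e2
        _ = b.1 * s' * ((p - 1) * (q - 1)) := by ring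
    have hs0' : 0 < s' := Nat.pos_of_ne_zero fun h => by simp [h] at hs1'
    have hdiv : a.1 * s / b.1 = s' := by rw [heq, Nat.mul_div_cancel_left _ hb0]
    have hpos : 0 < a.2 / q := Nat.div_pos (Nat.le_of_dvd (hac ▸ Nat.card_pos) hd) hq.pos
    constructor
    · simp only [pairOK, Nat.mod_eq_zero_of_dvd hd, if_true, Bool.and_eq_true, decide_eq_true_eq,
        List.any_eq_true, List.mem_range]
      exact ⟨Nat.mod_eq_zero_of_dvd hd', s, Nat.lt_succ_of_le (Nat.le_of_dvd hpos hs2),
        ⟨⟨⟨hs1, Nat.mod_eq_zero_of_dvd hs2⟩, by rw [heq]; exact Nat.mul_mod_right _ _⟩,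
          by rw [hdiv]; exact hs1'⟩, by rw [hdiv]; exact Nat.mod_eq_zero_of_dvd hs2'⟩
    · simp only [pairNum, Nat.mod_eq_zero_of_dvd hd, if_true]
      rw [e1]
      have h1 : a.1 ≤ a.1 * s := Nat.le_mul_of_pos_right _ hs0
      have h2 : b.1 ≤ a.1 * s := by rw [heq]; exact Nat.le_mul_of_pos_right _ hs0'
      calc max a.1 b.1 * (p - 1) * (q - 1) ≤ a.1 * s * (p - 1) * (q - 1) :=
            Nat.mul_le_mul_right _ (Nat.mul_le_mul_right _ (max_le h1 h2))
        _ = a.1 * (p - 1) * (s * (q - 1)) := by ring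
  · have hne : ¬ a.2 % q = 0 := fun h => hd (Nat.dvd_of_mod_eq_zero h)
    refine ⟨?_, by simp [pairNum, hne]⟩
    simp only [pairOK, hne, if_false, decide_eq_true_eq]
    intro h
    obtain ⟨s', hs', hs1', -⟩ := centNum_prime (q := p)
      (Subgroup.centralizer ((Q : Subgroup G) : Set G)) (hsq hp hgp hmp _) (hbc.symm ▸ Nat.dvd_of_mod_eq_zero h)
    rw [centNum_eq_zero _ (hac.symm ▸ hd), mul_zero] at e1
    rw [e1, hs'] at e2
    have hs0' : 0 < s' := Nat.pos_of_ne_zero fun h => by simp [h] at hs1'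
    exact absurd e2.symm (Nat.mul_pos (Nat.mul_pos hb0 hq1) (Nat.mul_pos hs0' hp1)).ne'

theorem two_facts {p : ℕ} [Fact p.Prime] (hp2 : p ≠ 2) (hgp : p ∣ 175560)
    (hmp : (175560 / p) % p ≠ 0) (P : Sylow p G) {a : ℕ × ℕ} (ha : Nat.card (Sylow p G) = a.1)
    (hac : Nat.card (Subgroup.centralizer ((P : Subgroup G) : Set G)) = a.2) :
    twoNum p a ≤ num G (p * 2) + num G (p * 4) + num G (p * 8) := by
  have hp := (Fact.out : p.Prime)
  have hcop : ∀ k, p.Coprime (2 ^ k) := fun k =>
    ((Nat.coprime_primes hp Nat.prime_two).2 hp2).pow_right k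
  have hP := sylow_card hG hgp hmp P
  obtain ⟨k, -, hk⟩ := (Nat.dvd_prime_pow Nat.prime_two).1
    (show Nat.gcd a.2 8 ∣ 2 ^ 3 from Nat.gcd_dvd_right _ _)
  have h := centNum_two (by rw [hG]; norm_num) (Subgroup.centralizer ((P : Subgroup G) : Set G)) (k := k)
    (by rw [hac, ← hk]; exact Nat.gcd_dvd_left _ _)
  rw [twoNum, hk, num_mul P hP (m := 2) (hcop 1) (by norm_num), num_mul P hP (m := 4) (hcop 2) (by norm_num),
    num_mul P hP (m := 8) (hcop 3) (by norm_num), num_prime (fun R => sylow_card hG hgp hmp R), ha,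
    ← mul_add, ← mul_add]
  exact Nat.mul_le_mul_left _ h

attribute [local irreducible] pairNum twoNum num

/-- The local data left by the sieve. -/
theorem exists_data [Fact (Nat.Prime 3)] [Fact (Nat.Prime 5)] [Fact (Nat.Prime 7)]
    [Fact (Nat.Prime 11)] [Fact (Nat.Prime 19)] (P3 : Sylow 3 G) (P5 : Sylow 5 G) (P7 : Sylow 7 G)
    (P11 : Sylow 11 G) (P19 : Sylow 19 G) :
    (Nat.card (Sylow 3 G) = 2926 ∧
        Nat.card (Subgroup.centralizer ((P3 : Subgroup G) : Set G)) = 30) ∧
      (Nat.card (Sylow 5 G) = 2926 ∧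
        (Nat.card (Subgroup.centralizer ((P5 : Subgroup G) : Set G)) = 30 ∨
          Nat.card (Subgroup.centralizer ((P5 : Subgroup G) : Set G)) = 15)) ∧
      (Nat.card (Sylow 7 G) = 4180 ∧
        (Nat.card (Subgroup.centralizer ((P7 : Subgroup G) : Set G)) = 7 ∨
          Nat.card (Subgroup.centralizer ((P7 : Subgroup G) : Set G)) = 14)) ∧
      (Nat.card (Sylow 11 G) = 1596 ∧
        (Nat.card (Subgroup.centralizer ((P11 : Subgroup G) : Set G)) = 11 ∨
          Nat.card (Subgroup.centralizer ((P11 : Subgroup G) : Set G)) = 22)) ∧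
      (Nat.card (Sylow 19 G) = 1540 ∧
        (Nat.card (Subgroup.centralizer ((P19 : Subgroup G) : Set G)) = 19 ∨
          Nat.card (Subgroup.centralizer ((P19 : Subgroup G) : Set G)) = 38)) := by
  obtain ⟨e, he, -, hen, hec, -, -⟩ := exists_cand hG (p := 3) (by norm_num) (by norm_num) (by norm_num) (by norm_num) P3
  obtain ⟨d, hd, -, hdn, hdc, -, -⟩ := exists_cand hG (p := 5) (by norm_num) (by norm_num) (by norm_num) (by norm_num) P5
  obtain ⟨c, hc, -, hcn, hcc, -, -⟩ := exists_cand hG (p := 7) (by norm_num) (by norm_num) (by norm_num) (by norm_num) P7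
  obtain ⟨b, hb, -, hbn, hbc, -, -⟩ := exists_cand hG (p := 11) (by norm_num) (by norm_num) (by norm_num) (by norm_num) P11
  obtain ⟨a, ha, -, han, hac, -, -⟩ := exists_cand hG (p := 19) (by norm_num) (by norm_num) (by norm_num) (by norm_num) P19
  obtain ⟨h3, h5, h7, h11, h19⟩ := cand_eq
  rw [h3] at he; rw [h5] at hd; rw [h7] at hc; rw [h11] at hb; rw [h19] at ha
  obtain ⟨o35, u35⟩ := pair_facts hG (p := 3) (q := 5) (by norm_num) (by norm_num) (by norm_num) (by norm_num) (by norm_num) P3 P5 hen hec hdn hdc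
  obtain ⟨o37, u37⟩ := pair_facts hG (p := 3) (q := 7) (by norm_num) (by norm_num) (by norm_num) (by norm_num) (by norm_num) P3 P7 hen hec hcn hcc
  obtain ⟨o311, u311⟩ := pair_facts hG (p := 3) (q := 11) (by norm_num) (by norm_num) (by norm_num) (by norm_num) (by norm_num) P3 P11 hen hec hbn hbc
  obtain ⟨o319, u319⟩ := pair_facts hG (p := 3) (q := 19) (by norm_num) (by norm_num) (by norm_num) (by norm_num) (by norm_num) P3 P19 hen hec han hac
  obtain ⟨o57, u57⟩ := pair_facts hG (p := 5) (q := 7) (by norm_num) (by norm_num) (by norm_num) (by norm_num) (by norm_num) P5 P7 hdn hdc hcn hcc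
  obtain ⟨o511, u511⟩ := pair_facts hG (p := 5) (q := 11) (by norm_num) (by norm_num) (by norm_num) (by norm_num) (by norm_num) P5 P11 hdn hdc hbn hbc
  obtain ⟨o519, u519⟩ := pair_facts hG (p := 5) (q := 19) (by norm_num) (by norm_num) (by norm_num) (by norm_num) (by norm_num) P5 P19 hdn hdc han hac
  obtain ⟨o711, u711⟩ := pair_facts hG (p := 7) (q := 11) (by norm_num) (by norm_num) (by norm_num) (by norm_num) (by norm_num) P7 P11 hcn hcc hbn hbc
  obtain ⟨o719, u719⟩ := pair_facts hG (p := 7) (q := 19) (by norm_num) (by norm_num) (by norm_num) (by norm_num) (by norm_num) P7 P19 hcn hcc han hac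
  obtain ⟨o1119, u1119⟩ := pair_facts hG (p := 11) (q := 19) (by norm_num) (by norm_num) (by norm_num) (by norm_num) (by norm_num) P11 P19 hbn hbc han hac
  have t3 := two_facts hG (p := 3) (by norm_num) (by norm_num) (by norm_num) P3 hen hec
  have t5 := two_facts hG (p := 5) (by norm_num) (by norm_num) (by norm_num) P5 hdn hdc
  have t7 := two_facts hG (p := 7) (by norm_num) (by norm_num) (by norm_num) P7 hcn hcc
  have t11 := two_facts hG (p := 11) (by norm_num) (by norm_num) (by norm_num) P11 hbn hbc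
  have t19 := two_facts hG (p := 19) (by norm_num) (by norm_num) (by norm_num) P19 han hac
  have s3 := num_prime (G := G) (fun R : Sylow 3 G => sylow_card hG (by norm_num) (by norm_num) R)
  have s5 := num_prime (G := G) (fun R : Sylow 5 G => sylow_card hG (by norm_num) (by norm_num) R)
  have s7 := num_prime (G := G) (fun R : Sylow 7 G => sylow_card hG (by norm_num) (by norm_num) R)
  have s11 := num_prime (G := G) (fun R : Sylow 11 G => sylow_card hG (by norm_num) (by norm_num) R)
  have s19 := num_prime (G := G) (fun R : Sylow 19 G => sylow_card hG (by norm_num) (by norm_num) R)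
  rw [hen] at s3; rw [hdn] at s5; rw [hcn] at s7; rw [hbn] at s11; rw [han] at s19
  have hsum := sum_num_le (G := G) [1, 3, 5, 7, 11, 19, 3 * 5, 3 * 7, 3 * 11, 3 * 19, 5 * 7, 5 * 11,
    5 * 19, 7 * 11, 7 * 19, 11 * 19, 3 * 2, 3 * 4, 3 * 8, 5 * 2, 5 * 4, 5 * 8, 7 * 2, 7 * 4, 7 * 8,
    11 * 2, 11 * 4, 11 * 8, 19 * 2, 19 * 4, 19 * 8] (by decide)
  simp only [List.map_cons, List.map_nil, List.sum_cons, List.sum_nil, hG, s3, s5, s7, s11, s19] at hsum
  have h1 := num_one (G := G)
  have htot : 1 + total a b c d e ≤ 175560 := by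
    simp only [Nat.reduceSub] at hsum
    simp only [total]
    linarith only [hsum, h1, u35, u37, u311, u319, u57, u511, u519, u711, u719, u1119, t3, t5, t7,
      t11, t19]
  have hs := sieve
  simp only [List.all_eq_true, Bool.or_eq_true, Bool.not_eq_true', decide_eq_true_eq] at hs
  have hsv : Survives a b c d e = true := by
    have h := ((((hs a ha b hb).resolve_left (by simp [o1119])) c hc).resolve_left
      (by simp [o719, o711]) d hd).resolve_left (by simp [o519, o511, o57]) e he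
    rcases h with h | h
    · simp [o319, o311, o37, o35] at h
      omega
    · exact h
  simp only [Survives, Bool.and_eq_true, Bool.or_eq_true, decide_eq_true_eq] at hsv
  obtain ⟨⟨⟨⟨rfl, hd'⟩, hc'⟩, hb'⟩, ha'⟩ := hsv
  refine ⟨⟨hen, hec⟩, ?_, ?_, ?_, ?_⟩
  · rcases hd' with rfl | rfl
    exacts [⟨hdn, Or.inl hdc⟩, ⟨hdn, Or.inr hdc⟩]
  · rcases hc' with rfl | rfl
    exacts [⟨hcn, Or.inl hcc⟩, ⟨hcn, Or.inr hcc⟩]
  · rcases hb' with rfl | rfl
    exacts [⟨hbn, Or.inl hbc⟩, ⟨hbn, Or.inr hbc⟩]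
  · rcases ha' with rfl | rfl
    exacts [⟨han, Or.inl hac⟩, ⟨han, Or.inr hac⟩]

end Cfsg.Agent.Lib.Order175560Uniq
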